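import Cfsg.Agent.Lib.CoprimeLayer.Basic
import Cfsg.Prelude.Def_Transfer

/-!
# The fixed-point theorem of Shult type gives the nilpotence used here
-/

set_option autoImplicit false
set_option linter.unusedSectionVars false
set_option linter.style.haveILetI false

namespace Cfsg.Agent.CoprimeLayer

universe u

variable {X : Type u} [Group X]

/-- A group which is trivial or a special 2-group is nilpotent. -/
theorem isNilpotent_of_bot_or_special [Finite X] {H : Subgroup X} {P Q : Prop}
    (h : H = ⊥ ∨ (P ∧ Q ∧ IsSpecial 2 ↥H)) : Group.IsNilpotent H := by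
  rcases h with h | ⟨-, -, h⟩
  · subst h; infer_instance
  · exact IsPGroup.isNilpotent h.1

end Cfsg.Agent.CoprimeLayer
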