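import Mathlib
import Cfsg.Agent.Lib.Coprime.Quotient

/-!
# Coprime automorphisms of prime order and perfect subgroups: setting

`R` has prime order `r`, acts on groups `L` and `Y` of order prime to `r`; `E` is a perfect subgroup
of `⁅L, R⁆` normalised by `L` and `R` and centralising `Y ⊓ centralizer R`.
-/

set_option autoImplicit false
set_option linter.unusedSectionVars false
set_option linter.style.haveILetI false

namespace Cfsg.Agent.CoprimeLayer

open scoped commutatorElement
open Subgroup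

universe u

/-- The fixed-point-free module theorem in the form that is needed: if `R` of prime order `r` has no
nonzero fixed vector on a faithful irreducible module of `G ⊔ R` then `⁅G, R⁆` is nilpotent. -/
def ShultHyp : Prop :=
  ∀ {X : Type u} [Group X] [Finite X] (G R : Subgroup X) [G.Normal], G ⊔ R = ⊤ →
    ∀ (r : ℕ), r.Prime → Nat.card R = r → ¬ r ∣ Nat.card G →
    ∀ {p : ℕ} [Fact p.Prime] {V : Type u} [AddCommGroup V] [Module (ZMod p) V]
      [Module.Finite (ZMod p) V] [Nontrivial V] (ρ : Representation (ZMod p) X V),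
      Function.Injective ρ →
      (∀ W : Submodule (ZMod p) V, (∀ x : X, W.map (ρ x) ≤ W) → W = ⊥ ∨ W = ⊤) →
      (∀ v : V, (∀ x ∈ R, ρ x v = v) → v = 0) →
      Group.IsNilpotent ↥⁅G, R⁆

variable {X : Type u} [Group X]

/-- A perfect solvable subgroup is trivial. -/
theorem eq_bot_of_perfect_of_isSolvable {E : Subgroup X} (hE : ⁅E, E⁆ = E)
    (hs : Group.IsSolvable E) : E = ⊥ := by
  haveI : Group.IsPerfect E := isPerfect_iff.mpr hE
  by_contra hne
  haveI : Nontrivial E := (nontrivial_iff_ne_bot E).mpr hne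
  exact Group.IsSolvable.commutator_lt_top_of_nontrivial (G := ↥E) |>.ne
    Group.IsPerfect.commutator_eq_top

theorem eq_bot_of_perfect_of_le {E W : Subgroup X} (hE : ⁅E, E⁆ = E) (hle : E ≤ W)
    (hs : Group.IsSolvable W) : E = ⊥ :=
  eq_bot_of_perfect_of_isSolvable hE (Coprime.isSolvable_of_le hle hs)

theorem eq_bot_of_perfect_of_comm {E : Subgroup X} (hE : ⁅E, E⁆ = E)
    (h : ∀ a ∈ E, ∀ b ∈ E, a * b = b * a) : E = ⊥ := by
  rw [← hE, eq_bot_iff]
  refine commutator_le.2 fun a ha b hb => ?_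
  rw [mem_bot, commutatorElement_eq_one_iff_mul_comm]
  exact h a ha b hb

theorem perfect_map {X' : Type*} [Group X'] (f : X →* X') {E : Subgroup X} (hE : ⁅E, E⁆ = E) :
    ⁅E.map f, E.map f⁆ = E.map f := by rw [← map_commutator, hE]

theorem perfect_sSup {S : Set (Subgroup X)} (h : ∀ U ∈ S, ⁅U, U⁆ = U) :
    ⁅sSup S, sSup S⁆ = sSup S := by
  refine le_antisymm (sSup S).commutator_le_self (sSup_le fun U hU => ?_)
  calc U = ⁅U, U⁆ := (h U hU).symm
    _ ≤ ⁅sSup S, sSup S⁆ := commutator_mono (le_sSup hU) (le_sSup hU)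

/-- The largest perfect subgroup of `W`. -/
def resid (W : Subgroup X) : Subgroup X := sSup {U | U ≤ W ∧ ⁅U, U⁆ = U}

theorem resid_le (W : Subgroup X) : resid W ≤ W := sSup_le fun _ hU => hU.1

theorem resid_perfect (W : Subgroup X) : ⁅resid W, resid W⁆ = resid W :=
  perfect_sSup fun _ hU => hU.2

theorem le_resid {U W : Subgroup X} (hle : U ≤ W) (hp : ⁅U, U⁆ = U) : U ≤ resid W := le_sSup ⟨hle, hp⟩

theorem map_conj_eq_of_mem_normalizer {Y : Subgroup X} {g : X} (hg : g ∈ normalizer (Y : Set X)) :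
    Y.map (MulAut.conj g).toMonoidHom = Y := by
  ext x
  constructor
  · rintro ⟨y, hy, rfl⟩
    exact (mem_normalizer_iff.1 hg y).1 hy
  · intro hx
    exact ⟨g⁻¹ * x * g, (mem_normalizer_iff.1 hg _).2 (by simpa [mul_assoc] using hx),
      by simp [mul_assoc]⟩

theorem mem_normalizer_of_forall [Finite X] {Y : Subgroup X} {g : X}
    (h : ∀ y ∈ Y, g * y * g⁻¹ ∈ Y) : g ∈ normalizer (Y : Set X) :=
  Subgroup.mem_normalizer_fintype h

theorem le_normalizer_resid [Finite X] {W A : Subgroup X} (hA : A ≤ normalizer (W : Set X)) :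
    A ≤ normalizer (resid W : Set X) := fun g hg => mem_normalizer_of_forall fun y hy => by
  have hle : (resid W).map (MulAut.conj g).toMonoidHom ≤ resid W :=
    le_resid ((Subgroup.map_mono (resid_le W)).trans (map_conj_eq_of_mem_normalizer (hA hg)).le)
      (perfect_map _ (resid_perfect W))
  exact hle ⟨y, hy, rfl⟩

/-- A perfect group inside `Y ⊔ W` lies in `Y ⊔ U` for a perfect `U ≤ W`. -/
theorem le_sup_resid [Finite X] {E Y W : Subgroup X} (hE : ⁅E, E⁆ = E)
    (hW : W ≤ normalizer (Y : Set X)) (hle : E ≤ Y ⊔ W) : E ≤ Y ⊔ resid W := by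
  classical
  obtain ⟨U, hU, hmin⟩ := Set.Finite.exists_minimalFor (fun U : Subgroup X => Nat.card U)
    {U : Subgroup X | U ≤ W ∧ E ≤ Y ⊔ U} (Set.toFinite _) ⟨W, le_rfl, hle⟩
  have hnY : Y ≤ normalizer (Y : Set X) := le_normalizer
  have hEU : E ≤ Y ⊔ ⁅U, U⁆ := by
    refine hE.ge.trans (commutator_le.2 fun a ha b hb => ?_)
    have hUY : U ≤ normalizer (Y : Set X) := hU.1.trans hW
    obtain ⟨y₁, hy₁, u₁, hu₁, rfl⟩ :=
      (Coprime.mem_sup_iff_of_le_normalizer' (H := U) (N := Y) hUY).1 ((sup_comm Y U).le (hU.2 ha))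
    obtain ⟨y₂, hy₂, u₂, hu₂, rfl⟩ :=
      (Coprime.mem_sup_iff_of_le_normalizer' (H := U) (N := Y) hUY).1 ((sup_comm Y U).le (hU.2 hb))
    let M := normalizer (Y : Set X)
    let q := QuotientGroup.mk' (Y.subgroupOf M)
    have e : ⁅(⟨y₁ * u₁, mul_mem (hnY hy₁) (hUY hu₁)⟩ : M),
        (⟨y₂ * u₂, mul_mem (hnY hy₂) (hUY hu₂)⟩ : M)⁆ *
        ⁅(⟨u₁, hUY hu₁⟩ : M), (⟨u₂, hUY hu₂⟩ : M)⁆⁻¹ ∈ Y.subgroupOf M := by
      rw [← QuotientGroup.eq_one_iff]
      change q _ = 1
      have h1 : ∀ (y u : X) (hy : y ∈ Y) (hu : u ∈ U),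
          q (⟨y * u, mul_mem (hnY hy) (hUY hu)⟩ : M) = q ⟨u, hUY hu⟩ := by
        intro y u hy hu
        have hy1 : q (⟨y, hnY hy⟩ : M) = 1 := (QuotientGroup.eq_one_iff _).2 hy
        rw [show (⟨y * u, mul_mem (hnY hy) (hUY hu)⟩ : M) = ⟨y, hnY hy⟩ * ⟨u, hUY hu⟩ from rfl,
          map_mul, hy1, one_mul]
      rw [map_mul, map_inv, map_commutatorElement, map_commutatorElement, h1 y₁ u₁ hy₁ hu₁,
        h1 y₂ u₂ hy₂ hu₂, mul_inv_cancel]
    have e' : ⁅y₁ * u₁, y₂ * u₂⁆ * ⁅u₁, u₂⁆⁻¹ ∈ Y := e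
    have := mul_mem (mem_sup_left (T := ⁅U, U⁆) e') (mem_sup_right (commutator_mem_commutator hu₁ hu₂))
    rwa [inv_mul_cancel_right] at this
  have hUU : ⁅U, U⁆ = U := Subgroup.eq_of_le_of_card_ge U.commutator_le_self
    (hmin ⟨U.commutator_le_self.trans hU.1, hEU⟩ (Subgroup.card_le_of_le U.commutator_le_self))
  exact hU.2.trans (sup_le le_sup_left ((le_resid hU.1 hUU).trans le_sup_right))

/-- The standing hypotheses. -/
structure Hyp (r : ℕ) (R L E Y : Subgroup X) : Prop where
  prime : r.Prime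
  cardR : Nat.card R = r
  copL : ¬ r ∣ Nat.card L
  copY : ¬ r ∣ Nat.card Y
  RL : R ≤ normalizer (L : Set X)
  RE : R ≤ normalizer (E : Set X)
  LE : L ≤ normalizer (E : Set X)
  perf : ⁅E, E⁆ = E
  le : E ≤ ⁅L, R⁆
  RY : R ≤ normalizer (Y : Set X)
  LY : L ≤ normalizer (Y : Set X)
  fix : E ≤ centralizer ((Y ⊓ centralizer (R : Set X) : Subgroup X) : Set X)

variable {r : ℕ} {R L E Y : Subgroup X}

theorem Hyp.coprime (h : Hyp r R L E Y) : (Nat.card R).Coprime (Nat.card Y) := by
  rw [h.cardR]; exact h.prime.coprime_iff_not_dvd.2 h.copY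

theorem Hyp.solvR (h : Hyp r R L E Y) : Group.IsSolvable R := by
  haveI := Fact.mk h.prime
  haveI : IsCyclic R := isCyclic_of_prime_card h.cardR
  exact Group.isSolvable_of_comm fun a b => (IsCyclic.isMulCommutative (α := R)).is_comm.comm a b

theorem Hyp.eLL (h : Hyp r R L E Y) : E ≤ L :=
  h.le.trans (commutator_le.2 fun l hl x hx => by
    rw [commutatorElement_def, mul_assoc, mul_assoc]
    exact mul_mem hl (by rw [← mul_assoc]; exact (mem_normalizer_iff.1 (h.RL hx) _).1 (inv_mem hl)))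

theorem Hyp.EY (h : Hyp r R L E Y) : E ≤ normalizer (Y : Set X) := h.eLL.trans h.LY

/-- Restriction of the hypotheses to a subgroup of `Y`. -/
theorem Hyp.mono [Finite X] (h : Hyp r R L E Y) {Z : Subgroup X} (hZ : Z ≤ Y)
    (hRZ : R ≤ normalizer (Z : Set X)) (hLZ : L ≤ normalizer (Z : Set X)) : Hyp r R L E Z :=
  { h with
    copY := fun hd => h.copY (hd.trans (card_dvd_of_le hZ))
    RY := hRZ
    LY := hLZ
    fix := h.fix.trans (centralizer_le (inf_le_inf_right _ hZ : Z ⊓ centralizer (R : Set X) ≤ _)) }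

/-- Pullback to a subgroup containing everything. -/
theorem Hyp.subgroupOf [Finite X] (h : Hyp r R L E Y) {M : Subgroup X} (hR : R ≤ M) (hL : L ≤ M)
    (hY : Y ≤ M) :
    Hyp r (R.subgroupOf M) (L.subgroupOf M) (E.subgroupOf M) (Y.subgroupOf M) := by
  have hE : E ≤ M := h.eLL.trans hL
  have hn : ∀ {A B : Subgroup X}, A ≤ normalizer (B : Set X) →
      A.subgroupOf M ≤ normalizer ((B.subgroupOf M : Subgroup M) : Set M) := by
    intro A B hAB a ha
    refine mem_normalizer_iff.2 fun b => ?_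
    simp only [mem_subgroupOf, Subgroup.coe_mul, Subgroup.coe_inv]
    exact mem_normalizer_iff.1 (hAB ha) b
  have hm : ∀ {A B : Subgroup X}, A ≤ M → B ≤ M →
      ⁅A.subgroupOf M, B.subgroupOf M⁆ = (⁅A, B⁆).subgroupOf M := by
    intro A B hA hB
    apply map_injective M.subtype_injective
    rw [map_commutator, map_subgroupOf_eq_of_le hA, map_subgroupOf_eq_of_le hB,
      map_subgroupOf_eq_of_le]
    exact (commutator_mono hA hB).trans M.commutator_le_self
  exact
    { prime := h.prime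
      cardR := by rw [Nat.card_congr (subgroupOfEquivOfLe hR).toEquiv, h.cardR]
      copL := by rw [Nat.card_congr (subgroupOfEquivOfLe hL).toEquiv]; exact h.copL
      copY := by rw [Nat.card_congr (subgroupOfEquivOfLe hY).toEquiv]; exact h.copY
      RL := hn h.RL
      RE := hn h.RE
      LE := hn h.LE
      perf := by rw [hm hE hE, h.perf]
      le := by rw [hm hL hR]; exact comap_mono h.le
      RY := hn h.RY
      LY := hn h.LY
      fix := fun e he => mem_centralizer_iff.2 fun c hc => Subtype.ext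
        (mem_centralizer_iff.1 (h.fix he) c ⟨hc.1, mem_centralizer_iff.2 fun x hx =>
          congrArg Subtype.val (mem_centralizer_iff.1 hc.2 ⟨x, hR hx⟩ hx)⟩) }

/-- Image under a homomorphism not killing `R`. -/
theorem Hyp.map [Finite X] {X' : Type*} [Group X'] (h : Hyp r R L E Y) (f : X →* X')
    (hf : R ⊓ f.ker = ⊥) : Hyp r (R.map f) (L.map f) (E.map f) (Y.map f) := by
  have hn : ∀ {A B : Subgroup X}, A ≤ normalizer (B : Set X) →
      A.map f ≤ normalizer ((B.map f : Subgroup X') : Set X') := fun hAB =>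
    (Subgroup.map_mono hAB).trans (le_normalizer_map f)
  exact
    { prime := h.prime
      cardR := by
        have hi : Function.Injective (f.subgroupMap R) := by
          refine (injective_iff_map_eq_one _).2 fun x hx => ?_
          have : (x : X) ∈ R ⊓ f.ker := ⟨x.2, congrArg Subtype.val hx⟩
          rw [hf, mem_bot] at this
          exact Subtype.ext this
        rw [← Nat.card_congr (Equiv.ofBijective _ ⟨hi, f.subgroupMap_surjective R⟩), h.cardR]
      copL := fun hd => h.copL (hd.trans (card_map_dvd L f))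
      copY := fun hd => h.copY (hd.trans (card_map_dvd Y f))
      RL := hn h.RL
      RE := hn h.RE
      LE := hn h.LE
      perf := perfect_map f h.perf
      le := by rw [← map_commutator]; exact Subgroup.map_mono h.le
      RY := hn h.RY
      LY := hn h.LY
      fix := by
        rw [← Coprime.map_inf_centralizer f h.RY h.coprime (Or.inl h.solvR)]
        rintro _ ⟨e, he, rfl⟩
        refine mem_centralizer_iff.2 ?_
        rintro _ ⟨c, hc, rfl⟩
        rw [← map_mul, ← map_mul, mem_centralizer_iff.1 (h.fix he) c hc] }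

end Cfsg.Agent.CoprimeLayer
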