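import Cfsg.Agent.Lib.CoprimeLayer.Basic

/-!
# The irreducible module case
-/

set_option autoImplicit false
set_option linter.unusedSectionVars false
set_option linter.style.haveILetI false

namespace Cfsg.Agent.CoprimeLayer

open scoped commutatorElement
open Subgroup

universe u

variable {X : Type u} [Group X] {r : ℕ} {R L E Y : Subgroup X}

theorem Hyp.RC (h : Hyp r R L E Y) : R ≤ normalizer ((Y ⊓ centralizer (E : Set X) : Subgroup X) : Set X) :=
  fun x hx => mem_normalizer_iff.2 fun y => by
    have hY := mem_normalizer_iff.1 (h.RY hx) y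
    constructor
    · rintro ⟨hy, hc⟩
      refine ⟨hY.1 hy, mem_centralizer_iff.2 fun e he => ?_⟩
      have he' : x⁻¹ * e * x ∈ E := by
        simpa using (mem_normalizer_iff.1 (inv_mem (h.RE hx)) e).1 he
      have := mem_centralizer_iff.1 hc _ he'
      have e2 := congrArg (fun t => x * t * x⁻¹) this
      simpa [mul_assoc] using e2
    · rintro ⟨hy, hc⟩
      refine ⟨hY.2 hy, mem_centralizer_iff.2 fun e he => ?_⟩
      have he' : x * e * x⁻¹ ∈ E := (mem_normalizer_iff.1 (h.RE hx) e).1 he
      have := mem_centralizer_iff.1 hc _ he'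
      have e2 := congrArg (fun t => x⁻¹ * t * x) this
      simpa [mul_assoc] using e2

theorem Hyp.LC (h : Hyp r R L E Y) : L ≤ normalizer ((Y ⊓ centralizer (E : Set X) : Subgroup X) : Set X) :=
  fun x hx => mem_normalizer_iff.2 fun y => by
    have hY := mem_normalizer_iff.1 (h.LY hx) y
    constructor
    · rintro ⟨hy, hc⟩
      refine ⟨hY.1 hy, mem_centralizer_iff.2 fun e he => ?_⟩
      have he' : x⁻¹ * e * x ∈ E := by
        simpa using (mem_normalizer_iff.1 (inv_mem (h.LE hx)) e).1 he
      have := mem_centralizer_iff.1 hc _ he'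
      have e2 := congrArg (fun t => x * t * x⁻¹) this
      simpa [mul_assoc] using e2
    · rintro ⟨hy, hc⟩
      refine ⟨hY.2 hy, mem_centralizer_iff.2 fun e he => ?_⟩
      have he' : x * e * x⁻¹ ∈ E := (mem_normalizer_iff.1 (h.LE hx) e).1 he
      have := mem_centralizer_iff.1 hc _ he'
      have e2 := congrArg (fun t => x⁻¹ * t * x) this
      simpa [mul_assoc] using e2

/-- Automorphisms as linear maps of the additive group. -/
def endHom (p : ℕ) (V : Type u) [CommGroup V] [Module (ZMod p) (Additive V)] :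
    MulAut V →* Module.End (ZMod p) (Additive V) where
  toFun g := (MonoidHom.toAdditive g.toMonoidHom).toZModLinearMap p
  map_one' := by ext v; rfl
  map_mul' g g' := by ext v; rfl

/-- The module theorem for a group of automorphisms of an elementary abelian group. -/
theorem isNilpotent_commutator_of_fpf (hS : ShultHyp.{u}) {V : Type u} [CommGroup V] [Finite V]
    [Nontrivial V] {p : ℕ} [Fact p.Prime] (hexp : ∀ v : V, v ^ p = 1) (Γ : Subgroup (MulAut V))
    (G R : Subgroup ↥Γ) [G.Normal] (hGR : G ⊔ R = ⊤) {r : ℕ} (hr : r.Prime) (hR : Nat.card R = r)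
    (hcop : ¬ r ∣ Nat.card G)
    (hirr : ∀ W : Subgroup V, (∀ g ∈ Γ, ∀ w ∈ W, g w ∈ W) → W = ⊥ ∨ W = ⊤)
    (hfix : ∀ v : V, (∀ x ∈ R, (x : MulAut V) v = v) → v = 1) : Group.IsNilpotent ↥⁅G, R⁆ := by
  letI md : Module (ZMod p) (Additive V) := AddCommGroup.zmodModule fun x => by
    apply Additive.toMul.injective
    exact hexp _
  haveI hfin : Module.Finite (ZMod p) (Additive V) := Module.Finite.of_finite
  haveI hnt : Nontrivial (Additive V) := inferInstanceAs (Nontrivial V)
  let ρ : Representation (ZMod p) ↥Γ (Additive V) := by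
    exact (endHom p V).comp Γ.subtype
  refine @hS _ _ _ G R _ hGR r hr hR hcop p _ (Additive V) Additive.addCommGroup md hfin hnt ρ ?_ ?_ ?_
  · intro g g' e
    apply Subtype.ext
    apply MulEquiv.ext
    intro v
    exact Additive.ofMul.injective (LinearMap.congr_fun e (Additive.ofMul v))
  · intro W hW
    let Wy : Subgroup V := AddSubgroup.toSubgroup' W.toAddSubgroup
    rcases hirr Wy fun g hg w hw => hW ⟨g, hg⟩ (Submodule.mem_map_of_mem hw) with e | e
    · left
      refine (Submodule.eq_bot_iff _).2 fun v hv => ?_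
      have h1 : Additive.toMul v ∈ Wy := hv
      rw [e, Subgroup.mem_bot] at h1
      exact Additive.toMul.injective h1
    · right
      exact Submodule.eq_top_iff'.2 fun v => e.ge (Subgroup.mem_top (Additive.toMul v))
  · intro v hv
    apply Additive.toMul.injective
    exact hfix _ fun x hx => Additive.ofMul.injective (hv x hx)

/-- An irreducible elementary abelian `Y` is centralised by `E`. -/
theorem centralize_of_irreducible [Finite X] (hS : ShultHyp.{u}) (h : Hyp r R L E Y) {p : ℕ}
    [Fact p.Prime] (hcomm : ∀ a ∈ Y, ∀ b ∈ Y, a * b = b * a) (hexp : ∀ y ∈ Y, y ^ p = 1)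
    (hmin : ∀ W ≤ Y, R ≤ normalizer (W : Set X) → L ≤ normalizer (W : Set X) → W = ⊥ ∨ W = Y) :
    E ≤ centralizer (Y : Set X) := by
  classical
  rcases hmin _ inf_le_left h.RC h.LC with hD | hD
  swap
  · exact le_centralizer_iff.1 ((le_of_eq hD.symm).trans inf_le_right)
  rcases eq_or_ne Y ⊥ with hY | hY
  · subst hY
    exact fun e _ => mem_centralizer_iff.2 fun y hy => by simp [Subgroup.mem_bot.1 hy]
  have hfixR : Y ⊓ centralizer (R : Set X) = ⊥ := by
    rw [eq_bot_iff, ← hD]
    exact le_inf inf_le_left (le_centralizer_iff.1 h.fix)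
  -- the image in `Aut Y`
  let A : Subgroup X := L ⊔ R
  have hA : A ≤ normalizer (Y : Set X) := sup_le h.LY h.RY
  let φ : ↥A →* MulAut ↥Y := (Subgroup.normalizerMonoidHom Y).comp (inclusion hA)
  have hφ : ∀ (a : ↥A) (y : ↥Y), ((φ a y : ↥Y) : X) = (a : X) * y * (a : X)⁻¹ := fun a y => rfl
  let ψ : ↥A →* ↥φ.range := φ.rangeRestrict
  have hψ : Function.Surjective ψ := φ.rangeRestrict_surjective
  have hψ1 : ∀ a : ↥A, ψ a = 1 → ∀ y ∈ Y, (a : X) * y = y * (a : X) := by
    intro a ha y hy
    have h1 : φ a = 1 := congrArg Subtype.val ha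
    have h2 : (a : X) * y * (a : X)⁻¹ = y := by
      rw [← hφ a ⟨y, hy⟩, h1]; rfl
    exact mul_inv_eq_iff_eq_mul.1 h2
  let G : Subgroup ↥φ.range := (L.subgroupOf A).map ψ
  let Rb : Subgroup ↥φ.range := (R.subgroupOf A).map ψ
  haveI : (L.subgroupOf A).Normal :=
    Coprime.normal_subgroupOf_of_le_normalizer (sup_le le_normalizer h.RL : A ≤ _)
  haveI : G.Normal := Subgroup.Normal.map inferInstance ψ hψ
  have hGR : G ⊔ Rb = ⊤ := by
    rw [← Subgroup.map_sup, ← subgroupOf_sup le_sup_left le_sup_right, subgroupOf_self,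
      Subgroup.map_top_of_surjective _ hψ]
  have hRcard : Nat.card Rb = r := by
    rcases (Nat.dvd_prime h.prime).1 ((card_map_dvd (R.subgroupOf A) ψ).trans
      (by rw [Nat.card_congr (subgroupOfEquivOfLe le_sup_right).toEquiv, h.cardR])) with h1 | h1
    · exfalso
      apply hY
      rw [eq_bot_iff, ← hfixR]
      refine le_inf le_rfl fun y hy => mem_centralizer_iff.2 fun x hx => ?_
      have hx1 : ψ ⟨x, mem_sup_right hx⟩ ∈ Rb := mem_map_of_mem ψ hx
      change ψ _ ∈ (R.subgroupOf A).map ψ at hx1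
      rw [Subgroup.card_eq_one.1 h1, Subgroup.mem_bot] at hx1
      exact hψ1 _ hx1 y hy
    · exact h1
  have hGcop : ¬ r ∣ Nat.card G := fun hd => h.copL (hd.trans ((card_map_dvd (L.subgroupOf A) ψ).trans
    (by rw [Nat.card_congr (subgroupOfEquivOfLe le_sup_left).toEquiv])))
  letI cg : CommGroup ↥Y :=
    { (inferInstance : Group ↥Y) with mul_comm := fun a b => Subtype.ext (hcomm _ a.2 _ b.2) }
  haveI : Nontrivial ↥Y := (nontrivial_iff_ne_bot Y).mpr hY
  have hnil : Group.IsNilpotent ↥⁅G, Rb⁆ := by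
    refine isNilpotent_commutator_of_fpf hS (V := ↥Y) (fun v => Subtype.ext (hexp _ v.2)) φ.range G Rb
      hGR h.prime hRcard hGcop ?_ ?_
    · intro W hW
      have hle : W.map Y.subtype ≤ Y := map_subtype_le _
      have hn : A ≤ normalizer ((W.map Y.subtype : Subgroup X) : Set X) := fun a ha =>
        Subgroup.mem_normalizer_fintype fun y hy => by
          obtain ⟨w, hw, rfl⟩ := hy
          exact ⟨φ ⟨a, ha⟩ w, hW _ ⟨_, rfl⟩ w hw, hφ _ _⟩
      rcases hmin _ hle (le_sup_right.trans hn) (le_sup_left.trans hn) with e | e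
      · exact Or.inl ((Subgroup.map_eq_bot_iff_of_injective _ Y.subtype_injective).1 e)
      · refine Or.inr (map_injective Y.subtype_injective ?_)
        refine e.trans ?_
        rw [← MonoidHom.range_eq_map, Subgroup.range_subtype]
    · intro v hv
      have h1 : (v : X) ∈ Y ⊓ centralizer (R : Set X) := ⟨v.2, mem_centralizer_iff.2 fun x hx => by
        have h2 := hv _ (mem_map_of_mem ψ
          (show (⟨x, mem_sup_right hx⟩ : ↥A) ∈ R.subgroupOf A from hx))
        have h3 := congrArg Subtype.val h2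
        rw [show ((ψ ⟨x, mem_sup_right hx⟩ : ↥φ.range) : MulAut ↥Y) = φ ⟨x, mem_sup_right hx⟩ from rfl,
          hφ] at h3
        exact mul_inv_eq_iff_eq_mul.1 h3⟩
      rw [hfixR, Subgroup.mem_bot] at h1
      exact Subtype.ext h1
  -- the image of `E` is perfect in a nilpotent group
  have hEA : E ≤ A := h.eLL.trans le_sup_left
  have hEb : (E.subgroupOf A).map ψ = ⊥ := by
    refine eq_bot_of_perfect_of_le (W := ⁅G, Rb⁆) (perfect_map _ ?_) ?_ inferInstance
    · apply map_injective A.subtype_injective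
      rw [map_commutator, map_subgroupOf_eq_of_le hEA, h.perf]
    · rw [← map_commutator]
      refine Subgroup.map_mono ?_
      rw [← Subgroup.map_subtype_le_map_subtype, map_commutator, map_subgroupOf_eq_of_le hEA,
        map_subgroupOf_eq_of_le le_sup_left, map_subgroupOf_eq_of_le le_sup_right]
      exact h.le
  intro e he
  refine mem_centralizer_iff.2 fun y hy => ?_
  have h1 : ψ ⟨e, hEA he⟩ ∈ (E.subgroupOf A).map ψ := mem_map_of_mem ψ he
  rw [hEb, Subgroup.mem_bot] at h1
  exact (hψ1 _ h1 y hy).symm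

end Cfsg.Agent.CoprimeLayer
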