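import Cfsg.Agent.Lib.CoprimeLayer.Main
import Cfsg.Agent.Lib.Components.GenFitting

/-!
# The layer of an invariant subgroup `H = [H, R]` lies in the layer

`R` has prime order prime to `|G|` and normalises `G`; `H = [H, R]` is normalised by `R` and by
`C_G(R)`.  The components of `H` outside `Y = F*(G)` generate a perfect `E` centralising `C_Y(R)`,
so `E` centralises `Y` and hence lies in `Y`.
-/

set_option autoImplicit false
set_option linter.unusedSectionVars false
set_option linter.style.haveILetI false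

namespace Cfsg.Agent.CoprimeLayer

open scoped commutatorElement
open Subgroup

universe u

variable {X : Type u} [Group X]

/-- Conjugation by an element of `normalizer H` permutes the components of `H`. -/
theorem exists_component_conj {H : Subgroup X} {K : Subgroup ↥H} (hK : IsComponent K) {g : X}
    (hg : g ∈ normalizer (H : Set X)) :
    ∃ K' : Subgroup ↥H, IsComponent K' ∧
      K'.map H.subtype = (K.map H.subtype).map (MulAut.conj g).toMonoidHom := by
  let e : ↥H ≃* ↥H := ((MulAut.conj g).subgroupMap H).trans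
    (MulEquiv.subgroupCongr (map_conj_eq_of_mem_normalizer hg))
  refine ⟨K.map e.toMonoidHom, Components.IsComponent.map_equiv hK e, ?_⟩
  rw [map_map, map_map]
  congr 1

/-- A subgroup `K` with `K^c` commuting with `K` or equal to it, `c ∈ Y`, is in `Y` or centralised
by `c`. -/
theorem commute_of_conj_eq_or_commute {Y K : Subgroup X} {c : X} (hc : c ∈ Y)
    (hKY : K ≤ normalizer (Y : Set X)) (hKq : IsQuasisimple K) (hnot : ¬ K ≤ Y)
    (h : K.map (MulAut.conj c).toMonoidHom = K ∨
      ⁅K, K.map (MulAut.conj c).toMonoidHom⁆ = ⊥) : ∀ k ∈ K, c * k = k * c := by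
  rcases h with h | h
  · have hcn : c ∈ normalizer (K : Set X) := by
      refine mem_normalizer_iff.2 fun k => ⟨fun hk => h ▸ ⟨k, hk, rfl⟩, fun hk => ?_⟩
      rw [← h] at hk
      obtain ⟨k', hk', e⟩ := hk
      have : k' = k := by simpa using e
      exact this ▸ hk'
    have hI : K ⊓ Y = K ∨ ⁅K, K ⊓ Y⁆ = ⊥ :=
      Components.IsQuasisimple.eq_or_commutator_eq_bot hKq inf_le_left
        ((le_inf le_normalizer hKY).trans inf_normalizer_le_normalizer_inf)
    have hI' : ⁅K, K ⊓ Y⁆ = ⊥ := hI.resolve_left fun h' => hnot (h' ▸ inf_le_right)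
    have hcom : ⁅zpowers c, K⁆ ≤ K ⊓ Y := by
      refine commutator_le.2 fun a ha k hk => Subgroup.mem_inf.2 ⟨?_, ?_⟩
      · have ha' : a ∈ normalizer (K : Set X) := zpowers_le.2 hcn ha
        rw [commutatorElement_def]
        exact mul_mem ((mem_normalizer_iff.1 ha' k).1 hk) (inv_mem hk)
      · have ha' : a ∈ Y := zpowers_le.2 hc ha
        rw [commutatorElement_def, mul_assoc, mul_assoc]
        refine mul_mem ha' ?_
        rw [← mul_assoc]
        exact (mem_normalizer_iff.1 (hKY hk) a⁻¹).1 (inv_mem ha')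
    have h0 : ⁅⁅zpowers c, K⁆, K⁆ = ⊥ :=
      eq_bot_iff.2 ((commutator_mono hcom le_rfl).trans (Components.commutator_eq_bot_symm hI').le)
    have h1 := Components.commutator_eq_bot_of_commutator_commutator hKq.1 h0
    intro k hk
    exact (mem_centralizer_iff.1 (Components.le_centralizer_of_commutator_eq_bot h1 hk) c
      (mem_zpowers c)).symm ▸ rfl
  · exfalso
    refine hnot ?_
    rw [← Components.IsQuasisimple.commutator_self hKq]
    refine commutator_le.2 fun a ha b hb => ?_
    have hn : a ∈ normalizer (Y : Set X) := hKY ha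
    have hb' : c * b * c⁻¹ ∈ K.map (MulAut.conj c).toMonoidHom := ⟨b, hb, rfl⟩
    have hcomm : a * (c * b * c⁻¹) = c * b * c⁻¹ * a :=
      commutatorElement_eq_one_iff_mul_comm.1
        (mem_bot.1 (h ▸ commutator_mem_commutator ha hb'))
    -- `b = y * b'` with `y ∈ Y` and `b' = c b c⁻¹` commuting with `a`
    have hy : b * c * b⁻¹ * c⁻¹ ∈ Y :=
      mul_mem ((mem_normalizer_iff.1 (hKY hb) c).1 hc) (inv_mem hc)
    have e : ⁅a, b⁆ = (a * (b * c * b⁻¹ * c⁻¹) * a⁻¹) * (b * c * b⁻¹ * c⁻¹)⁻¹ := by
      rw [commutatorElement_def]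
      have : b = b * c * b⁻¹ * c⁻¹ * (c * b * c⁻¹) := by group
      calc a * b * a⁻¹ * b⁻¹
          = a * (b * c * b⁻¹ * c⁻¹) * ((c * b * c⁻¹) * a⁻¹) * b⁻¹ := by group
        _ = a * (b * c * b⁻¹ * c⁻¹) * (a⁻¹ * (a * (c * b * c⁻¹)) * a⁻¹) * b⁻¹ := by group
        _ = a * (b * c * b⁻¹ * c⁻¹) * (a⁻¹ * (c * b * c⁻¹ * a) * a⁻¹) * b⁻¹ := by rw [hcomm]
        _ = _ := by group
    rw [e]
    exact mul_mem ((mem_normalizer_iff.1 hn _).1 hy) (inv_mem hy)

/-- The layer of an invariant `H = [H, R]` lies in the layer of `G`. -/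
theorem layer_le_layer (hFT : FTConsumers.OddOrder.{u}) (hS : ShultHyp.{u}) [Finite X]
    {G R H : Subgroup X} {r : ℕ} (hr : r.Prime) (hR : Nat.card R = r)
    (hcop : (Nat.card G).Coprime r) (hnorm : R ≤ normalizer (G : Set X)) (hHG : H ≤ G)
    (hHinv : R ⊔ (G ⊓ centralizer (R : Set X)) ≤ normalizer (H : Set X)) (hHR : ⁅H, R⁆ = H) :
    (layer ↥H).map H.subtype ≤ (layer ↥G).map G.subtype := by
  set Y : Subgroup X := (generalizedFittingSubgroup ↥G).map G.subtype with hYdef
  have hYG : Y ≤ G := map_subtype_le _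
  have hGY : normalizer (G : Set X) ≤ normalizer (Y : Set X) :=
    Components.normalizer_le_normalizer_map_of_characteristic G _
  have hnd : ∀ {A : Subgroup X}, A ≤ G → ¬ r ∣ Nat.card A := fun hA hd =>
    hr.coprime_iff_not_dvd.1 hcop.symm (hd.trans (card_dvd_of_le hA))
  set S : Set (Subgroup X) :=
    {U | ∃ K : Subgroup ↥H, IsComponent K ∧ K.map H.subtype = U ∧ ¬ U ≤ Y}
  set E : Subgroup X := sSup S with hEdef
  have hEH : E ≤ H := sSup_le fun U ⟨K, _, hU, _⟩ => hU ▸ map_subtype_le K
  have hperm : ∀ g : X, g ∈ normalizer (H : Set X) → g ∈ normalizer (Y : Set X) →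
      g ∈ normalizer (E : Set X) := by
    intro g hgH hgY
    refine mem_normalizer_of_forall fun y hy => ?_
    have : E.map (MulAut.conj g).toMonoidHom ≤ E := by
      rw [hEdef, map_le_iff_le_comap]
      refine sSup_le fun U ⟨K, hK, hU, hnU⟩ => map_le_iff_le_comap.1 (le_sSup ?_)
      obtain ⟨K', hK', hK'e⟩ := exists_component_conj hK hgH
      refine ⟨K', hK', by rw [hK'e, hU], fun hle => hnU ?_⟩
      rw [← map_conj_eq_of_mem_normalizer hgY] at hle
      exact (map_le_map_iff_of_injective (MulAut.conj g).injective).1 hle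
    exact this ⟨y, hy, rfl⟩
  have hHY : H ≤ normalizer (Y : Set X) := (hHG.trans le_normalizer).trans hGY
  have hRH : R ≤ normalizer (H : Set X) := le_sup_left.trans hHinv
  have hyp : Hyp r R H E Y :=
    { prime := hr
      cardR := hR
      copL := hnd hHG
      copY := hnd hYG
      RL := hRH
      RE := fun x hx => hperm x (hRH hx) (hGY (hnorm hx))
      LE := fun x hx => hperm x (le_normalizer hx) (hHY hx)
      perf := perfect_sSup fun U ⟨K, hK, hU, _⟩ => by
        rw [← hU]; exact perfect_map _ (Components.IsComponent.commutator_self hK)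
      le := hEH.trans hHR.ge
      RY := hnorm.trans hGY
      LY := hHY
      fix := sSup_le fun U ⟨K, hK, hU, hnU⟩ => fun k hk => mem_centralizer_iff.2 fun c hc => by
        have hcG : c ∈ G ⊓ centralizer (R : Set X) := ⟨hYG hc.1, hc.2⟩
        have hUH : U ≤ H := hU ▸ map_subtype_le K
        refine commute_of_conj_eq_or_commute hc.1 (hUH.trans hHY)
          (hU ▸ Components.IsQuasisimple.map_injective hK.2 H.subtype_injective) hnU ?_ k hk
        obtain ⟨K', hK', hK'e⟩ := exists_component_conj hK (hHinv (mem_sup_right hcG))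
        rw [hU] at hK'e
        rw [← hK'e, ← hU]
        by_cases h : K' = K
        · exact Or.inl (congrArg _ h)
        · right
          rw [← map_commutator, Components.IsComponent.commutator_eq_bot hK hK' (Ne.symm h),
            Subgroup.map_bot] }
  have hEC : E ≤ centralizer (Y : Set X) := centralize hFT hS hyp
  have hcomp : ∀ K : Subgroup ↥H, IsComponent K → K.map H.subtype ≤ Y := by
    intro K hK
    by_contra hn
    apply hn
    intro x hx
    have hxE : x ∈ E := (le_sSup (show K.map H.subtype ∈ S from ⟨K, hK, rfl, hn⟩)) hx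
    have hxG : x ∈ G := hHG (hEH hxE)
    have : (⟨x, hxG⟩ : G) ∈ centralizer (generalizedFittingSubgroup ↥G : Set ↥G) :=
      mem_centralizer_iff.2 fun y hy => Subtype.ext
        (mem_centralizer_iff.1 (hEC hxE) _ ⟨y, hy, rfl⟩)
    exact ⟨_, Components.centralizer_generalizedFittingSubgroup_le this, rfl⟩
  set P : Subgroup X := (layer ↥H).map H.subtype
  have hP : ⁅P, P⁆ = P := perfect_map _ Components.commutator_layer_self
  set E0 : Subgroup X := (layer ↥G).map G.subtype
  set F0 : Subgroup X := (fittingSubgroup ↥G).map G.subtype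
  have hPle : P ≤ E0 ⊔ F0 := by
    rw [← Subgroup.map_sup]
    exact map_le_iff_le_comap.2 (sSup_le fun K hK => map_le_iff_le_comap.1 (hcomp K hK))
  have hF0 : Group.IsSolvable F0 := by
    haveI : Group.IsNilpotent (fittingSubgroup ↥G) := inferInstance
    exact Group.isSolvable_of_surjective (f := G.subtype.subgroupMap (fittingSubgroup ↥G))
      (G.subtype.subgroupMap_surjective _)
  have hFE : F0 ≤ normalizer (E0 : Set X) :=
    (map_subtype_le _).trans (le_normalizer.trans
      (Components.normalizer_le_normalizer_map_of_characteristic G _))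
  have := le_sup_resid hP hFE hPle
  rwa [eq_bot_of_perfect_of_le (resid_perfect F0) (resid_le F0) hF0, sup_bot_eq] at this

end Cfsg.Agent.CoprimeLayer
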