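import Cfsg.Agent.Lib.CoprimeLayer.Basic
import Cfsg.Agent.Lib.FTConsumers.AutCentSylow
import Cfsg.Agent.Lib.PCore.Basic

/-!
# Perfect groups centralising a Sylow 2-subgroup
-/

set_option autoImplicit false
set_option linter.unusedSectionVars false
set_option linter.style.haveILetI false

namespace Cfsg.Agent.CoprimeLayer

open scoped commutatorElement
open Subgroup

universe u

variable {X : Type u} [Group X]

/-- A perfect group normalising `Y` and centralising a Sylow 2-subgroup of `Y` centralises `Y`,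
if `O(Y) = 1`. -/
theorem le_centralizer_of_fix_sylow (hFT : FTConsumers.OddOrder.{u}) [Finite X] {Y E : Subgroup X}
    (hO : ∀ N : Subgroup ↥Y, N.Normal → Odd (Nat.card N) → N = ⊥)
    (hEY : E ≤ normalizer (Y : Set X)) (hE : ⁅E, E⁆ = E) (P : Sylow 2 ↥Y)
    (hfix : ∀ e ∈ E, ∀ s : ↥Y, s ∈ (P : Subgroup ↥Y) → (s : X) * e = e * s) :
    E ≤ centralizer (Y : Set X) := by
  let φ : ↥E →* MulAut ↥Y := (Subgroup.normalizerMonoidHom Y).comp (inclusion hEY)
  have hφ : ∀ (a : ↥E) (y : ↥Y), ((φ a y : ↥Y) : X) = (a : X) * y * (a : X)⁻¹ := fun a y => rfl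
  let C := FTConsumers.AutCentSylow.fixer P
  have hs : Group.IsSolvable ↥C :=
    FTConsumers.AutCentSylow.isSolvable hFT hO C fun _ => Iff.rfl
  have hle : φ.range ≤ C := by
    rintro _ ⟨a, rfl⟩ s hs
    apply Subtype.ext
    rw [hφ, ← hfix a a.2 s hs, mul_inv_cancel_right]
  have hp : ⁅φ.range, φ.range⁆ = φ.range := by
    rw [MonoidHom.range_eq_map, ← map_commutator]
    congr 1
    apply map_injective E.subtype_injective
    rw [map_commutator, ← MonoidHom.range_eq_map, Subgroup.range_subtype, hE]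
  have h1 := eq_bot_of_perfect_of_le hp hle hs
  intro e he
  refine mem_centralizer_iff.2 fun y hy => ?_
  have h2 : φ ⟨e, he⟩ ∈ φ.range := ⟨_, rfl⟩
  rw [h1, Subgroup.mem_bot] at h2
  have h3 : (e : X) * y * e⁻¹ = y := by
    rw [show (e : X) = ((⟨e, he⟩ : ↥E) : X) from rfl, ← hφ ⟨e, he⟩ ⟨y, hy⟩, h2]
    rfl
  exact (mul_inv_eq_iff_eq_mul.1 h3).symm

end Cfsg.Agent.CoprimeLayer
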