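import Cfsg.Agent.Lib.CoprimeLayer.Irreducible
import Cfsg.Agent.Lib.CoprimeLayer.SylowTwo
import Cfsg.Agent.Lib.Components.Subnormal
import Cfsg.Agent.Lib.Components.PActionAux
import Cfsg.Agent.Lib.PGroup.Basic
import Cfsg.Agent.Lib.Coprime.IndexBound
import Cfsg.Agent.Lib.Coprime.Sylow
import Cfsg.Agent.Lib.PComplement.FixedPointFree

/-!
# A perfect `E ≤ [L, R]` commuting with `C_Y(R)` centralises `Y`

`R` has prime order `r`, `L` and `Y` have order prime to `r`.  Reduction to `Y` without invariant
normal subgroups; the abelian case is the fixed-point-free module theorem.  Otherwise put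
`D = C_Y(E)`.  If `|D|` is even, Frattini and induction show that `D` contains the normaliser of its
invariant Sylow 2-subgroup, hence a Sylow 2-subgroup of `Y`.  If `|D|` is odd, the perfect part of
`[N_{YL}(T), R]` centralises an invariant Sylow 2-subgroup `T`.  In both cases Glauberman's theorem
on automorphisms centralising a Sylow 2-subgroup finishes.
-/

set_option autoImplicit false
set_option linter.unusedSectionVars false
set_option linter.style.haveILetI false

namespace Cfsg.Agent.CoprimeLayer

open scoped commutatorElement Pointwise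
open Subgroup

universe u

variable {X : Type u} [Group X]

theorem le_normalizer_map_char {Y A : Subgroup X} (hA : A ≤ normalizer (Y : Set X))
    (C : Subgroup ↥Y) [C.Characteristic] : A ≤ normalizer ((C.map Y.subtype : Subgroup X) : Set X) :=
  hA.trans (Components.normalizer_le_normalizer_map_of_characteristic Y C)

/-- `[Y, E] ≤ W` and `[W, E] = 1` give `[Y, E] = 1` for a perfect `E`. -/
theorem le_centralizer_of_step {Y W E : Subgroup X} (hE : ⁅E, E⁆ = E) (h1 : ⁅Y, E⁆ ≤ W)
    (h2 : E ≤ centralizer (W : Set X)) : E ≤ centralizer (Y : Set X) := by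
  have e1 : ⁅⁅Y, E⁆, E⁆ = ⊥ := by
    rw [eq_bot_iff]
    refine (commutator_mono h1 le_rfl).trans ?_
    rw [commutator_eq_bot_iff_le_centralizer.2 (le_centralizer_iff.1 h2)]
  have e2 : ⁅⁅E, Y⁆, E⁆ = ⊥ := by rw [commutator_comm E Y, e1]
  have e3 := commutator_commutator_eq_bot_of_rotate e2 e1
  rw [hE] at e3
  exact commutator_eq_bot_iff_le_centralizer.1 e3

theorem not_dvd_card_sup [Finite X] {r : ℕ} (hr : r.Prime) {H N : Subgroup X}
    (h : H ≤ normalizer (N : Set X)) (hH : ¬ r ∣ Nat.card H) (hN : ¬ r ∣ Nat.card N) :
    ¬ r ∣ Nat.card ↥(N ⊔ H) := by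
  rw [← Coprime.card_mul_relIndex le_sup_left, sup_comm N H]
  intro hd
  rcases hr.dvd_mul.1 hd with e | e
  · exact hN e
  · rw [Coprime.relIndex_sup_right_of_le_normalizer h] at e
    exact hH (e.trans (Subgroup.relIndex_dvd_card _ _))

/-- The main lemma. -/
theorem centralize_aux (hFT : FTConsumers.OddOrder.{u}) (hS : ShultHyp.{u}) : ∀ (n : ℕ) {X : Type u} [Group X] [Finite X] {r : ℕ}
    {R L E Y : Subgroup X}, Hyp r R L E Y → Nat.card Y = n → E ≤ centralizer (Y : Set X) := by
  intro n
  induction n using Nat.strong_induction_on with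
  | _ n IH =>
    intro X _ _ r R L E Y h hn
    classical
    have hIH : ∀ {R' L' E' W : Subgroup X}, Hyp r R' L' E' W → W < Y →
        E' ≤ centralizer (W : Set X) := fun h' hlt =>
      IH _ (hn ▸ Nat.lt_of_le_of_ne (Subgroup.card_le_of_le hlt.le) fun e =>
        hlt.ne (Subgroup.eq_of_le_of_card_ge hlt.le e.ge)) h' rfl
    rcases eq_or_ne Y ⊥ with hY | hY
    · subst hY
      exact fun e _ => mem_centralizer_iff.2 fun y hy => by simp [Subgroup.mem_bot.1 hy]
    by_contra hfail
    -- no invariant normal subgroups
    have hmin : ∀ W ≤ Y, Y ≤ normalizer (W : Set X) → R ≤ normalizer (W : Set X) →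
        L ≤ normalizer (W : Set X) → W = ⊥ ∨ W = Y := by
      intro W hWY hYW hRW hLW
      by_contra hne
      push Not at hne
      apply hfail
      have hEW : E ≤ centralizer (W : Set X) :=
        hIH (h.mono hWY hRW hLW) (lt_of_le_of_ne hWY hne.2)
      refine le_centralizer_of_step h.perf ?_ hEW
      let M := normalizer (W : Set X)
      let q := QuotientGroup.mk' (W.subgroupOf M)
      have h1 := h.subgroupOf (M := M) hRW hLW hYW
      have hWM : W ≤ M := le_normalizer
      have hker : R.subgroupOf M ⊓ q.ker = ⊥ := by
        rw [QuotientGroup.ker_mk', eq_bot_iff]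
        rintro ⟨x, hxM⟩ ⟨hxR, hxW⟩
        rw [Subgroup.mem_bot]
        apply Subtype.ext
        refine orderOf_eq_one_iff.1 (Nat.eq_one_of_dvd_coprimes h.coprime
          (Subgroup.orderOf_dvd_natCard _ hxR) (Subgroup.orderOf_dvd_natCard _ (hWY hxW)))
      have h2 := h1.map q hker
      have hlt : Nat.card ((Y.subgroupOf M).map q) < n := by
        rw [← hn, ← Nat.card_congr (subgroupOfEquivOfLe hYW).toEquiv]
        refine lt_of_le_of_ne (Nat.card_le_card_of_surjective _ (q.subgroupMap_surjective _)) fun e => ?_
        have hb : Function.Bijective (q.subgroupMap (Y.subgroupOf M)) :=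
          (Nat.bijective_iff_surjective_and_card _).2 ⟨q.subgroupMap_surjective _, e.symm⟩
        apply hne.1
        rw [eq_bot_iff]
        intro w hw
        have e1 : q.subgroupMap (Y.subgroupOf M) ⟨⟨w, hWM hw⟩, hWY hw⟩ =
            q.subgroupMap (Y.subgroupOf M) 1 := by
          rw [map_one]
          exact Subtype.ext ((QuotientGroup.eq_one_iff _).2 hw)
        rw [Subgroup.mem_bot]
        exact congrArg (fun t : ↥(Y.subgroupOf M) => ((t : M) : X)) (hb.1 e1)
      have h3 := IH _ hlt h2 rfl
      refine commutator_le.2 fun y hy e he => ?_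
      have hyM : y ∈ M := hYW hy
      have heM : e ∈ M := (h.eLL.trans hLW) he
      have h4 := mem_centralizer_iff.1 (h3 (mem_map_of_mem q (x := ⟨e, heM⟩) he)) _
        (mem_map_of_mem q (x := ⟨y, hyM⟩) hy)
      have h5 : q ⁅(⟨y, hyM⟩ : M), ⟨e, heM⟩⁆ = 1 := by
        rw [map_commutatorElement, commutatorElement_eq_one_iff_mul_comm]
        exact h4
      exact ((QuotientGroup.eq_one_iff (N := W.subgroupOf M) _).1 h5 :)
    have hchar : ∀ (C : Subgroup ↥Y), C.Characteristic → C = ⊥ ∨ C = ⊤ := by
      intro C hC
      rcases hmin _ (map_subtype_le C) (le_normalizer_map_char le_normalizer C)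
        (le_normalizer_map_char h.RY C) (le_normalizer_map_char h.LY C) with e | e
      · exact Or.inl ((Subgroup.map_eq_bot_iff_of_injective _ Y.subtype_injective).1 e)
      · refine Or.inr (map_injective Y.subtype_injective ?_)
        rw [e, ← MonoidHom.range_eq_map, Subgroup.range_subtype]
    apply hfail
    by_cases hsol : Group.IsSolvable ↥Y
    · -- irreducible module
      have hcomm : ∀ a ∈ Y, ∀ b ∈ Y, a * b = b * a := by
        haveI : Nontrivial ↥Y := (nontrivial_iff_ne_bot Y).mpr hY
        rcases hchar (commutator ↥Y) inferInstance with e | e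
        · intro a ha b hb
          have h1 : ⁅(⟨a, ha⟩ : ↥Y), ⟨b, hb⟩⁆ ∈ commutator ↥Y := by
            rw [_root_.commutator_def]
            exact commutator_mem_commutator (Subgroup.mem_top _) (Subgroup.mem_top _)
          rw [e, Subgroup.mem_bot, commutatorElement_eq_one_iff_mul_comm] at h1
          exact congrArg Subtype.val h1
        · exact absurd e (Group.IsSolvable.commutator_lt_top_of_nontrivial (G := ↥Y)).ne
      obtain ⟨p, hp, hpd⟩ := Nat.exists_prime_and_dvd
        (fun e => hY (Subgroup.card_eq_one.1 e) : Nat.card ↥Y ≠ 1)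
      haveI := Fact.mk hp
      let W : Subgroup X :=
        { carrier := {y | y ∈ Y ∧ y ^ p = 1}
          one_mem' := ⟨one_mem Y, one_pow p⟩
          mul_mem' := fun {a b} ha hb => ⟨mul_mem ha.1 hb.1, by
            rw [Commute.mul_pow (hcomm a ha.1 b hb.1), ha.2, hb.2, one_mul]⟩
          inv_mem' := fun {a} ha => ⟨inv_mem ha.1, by rw [inv_pow, ha.2, inv_one]⟩ }
      have hYW : Y ≤ normalizer (W : Set X) := fun x hx => Subgroup.mem_normalizer_fintype fun y hy => by
        rw [show x * y * x⁻¹ = y by rw [hcomm x hx y hy.1, mul_inv_cancel_right]]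
        exact hy
      have hAW : ∀ {A : Subgroup X}, A ≤ normalizer (Y : Set X) → A ≤ normalizer (W : Set X) :=
        fun hA x hx => Subgroup.mem_normalizer_fintype fun y hy =>
          ⟨(mem_normalizer_iff.1 (hA hx) y).1 hy.1, by rw [conj_pow, hy.2, mul_one, mul_inv_cancel]⟩
      have hWY : W = Y := by
        refine (hmin W (fun y hy => hy.1) hYW (hAW h.RY) (hAW h.LY)).resolve_left fun e => ?_
        obtain ⟨y, hy⟩ := exists_prime_orderOf_dvd_card' p hpd
        have h1 : (y : X) ∈ W := ⟨y.2, by
          rw [← Subgroup.coe_pow, ← hy, pow_orderOf_eq_one, Subgroup.coe_one]⟩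
        rw [e, Subgroup.mem_bot] at h1
        rw [orderOf_eq_one_iff.2 (Subtype.ext h1)] at hy
        exact hp.ne_one hy.symm
      exact centralize_of_irreducible hS h hcomm (fun y hy => (hWY.ge hy).2) fun W hW hR hL =>
        hmin W hW (fun x hx => Subgroup.mem_normalizer_fintype fun y hy => by
          rw [show x * y * x⁻¹ = y by rw [hcomm x hx y (hW hy), mul_inv_cancel_right]]
          exact hy) hR hL
    -- non-solvable case
    have hO : ∀ N : Subgroup ↥Y, N.Normal → Odd (Nat.card N) → N = ⊥ := by
      intro N hN ho
      haveI := hN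
      rcases hchar (oddCore ↥Y) inferInstance with e | e
      · exact le_bot_iff.1 ((PCore.le_oddCore ho).trans e.le)
      · exfalso
        apply hsol
        refine hFT _ ?_
        have := PCore.odd_card_oddCore (G := ↥Y)
        rwa [e, Subgroup.card_top] at this
    haveI : Fact (Nat.Prime 2) := ⟨Nat.prime_two⟩
    set D := Y ⊓ centralizer (E : Set X) with hDdef
    have hDY : D ≤ Y := inf_le_left
    have hED : E ≤ centralizer (D : Set X) := le_centralizer_iff.1 inf_le_right
    have hnotD : ¬ Y ≤ D := fun hle => hfail (hED.trans (centralizer_le hle))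
    have hcopD : (Nat.card R).Coprime (Nat.card D) :=
      h.coprime.of_dvd_right (card_dvd_of_le hDY)
    by_cases h2 : 2 ∣ Nat.card D
    · obtain ⟨Q, hQ⟩ := Coprime.exists_invariant_sylow (A := R) (K := D) h.RC hcopD (Or.inl h.solvR) 2
      set Q₀ : Subgroup X := (Q : Subgroup D).map D.subtype with hQ₀def
      have hQD : Q₀ ≤ D := map_subtype_le _
      have hQcard : Nat.card Q₀ = Nat.card (Q : Subgroup D) := card_map_of_injective D.subtype_injective
      have hQne : Q₀ ≠ ⊥ := by
        intro e
        have h1 : Nat.card (Q : Subgroup D) = 1 := by rw [← hQcard, e, Subgroup.card_bot]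
        have h3 := Q.dvd_card_of_dvd_card h2
        omega
      set Y' := Y ⊓ normalizer (Q₀ : Set X) with hY'def
      have hY'lt : Y' < Y := by
        refine lt_of_le_of_ne inf_le_left fun e => ?_
        have hYQ : Y ≤ normalizer (Q₀ : Set X) := e.ge.trans inf_le_right
        haveI : (Q₀.subgroupOf Y).Normal := Coprime.normal_subgroupOf_of_le_normalizer hYQ
        have hQ2 : IsPGroup 2 (Q₀.subgroupOf Y) :=
          (Q.isPGroup'.map D.subtype).comap_of_injective Y.subtype Y.subtype_injective
        have hle : Q₀.subgroupOf Y ≤ pCore 2 ↥Y := le_sSup ⟨inferInstance, hQ2⟩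
        rcases hchar (pCore 2 ↥Y) inferInstance with e1 | e1
        · apply hQne
          rw [eq_bot_iff]
          intro x hx
          have h1 := hle (show (⟨x, hDY (hQD hx)⟩ : ↥Y) ∈ Q₀.subgroupOf Y from hx)
          rw [e1, Subgroup.mem_bot] at h1
          exact congrArg Subtype.val h1
        · apply hsol
          have h1 : IsPGroup 2 (pCore 2 ↥Y) := PCore.isPGroup_pCore
          rw [e1] at h1
          haveI : Group.IsNilpotent ↥Y :=
            (IsPGroup.of_equiv h1 Subgroup.topEquiv).isNilpotent
          infer_instance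
      have hDLn : L ≤ normalizer (D : Set X) := h.LC
      set L' := (D ⊔ L) ⊓ normalizer (Q₀ : Set X) with hL'def
      have hDLE : D ⊔ L ≤ normalizer (E : Set X) :=
        sup_le ((inf_le_right.trans (centralizer_le_normalizer _))) h.LE
      have hRDL : R ≤ normalizer ((D ⊔ L : Subgroup X) : Set X) :=
        (le_inf h.RC h.RL).trans (Components.inf_normalizer_le_normalizer_sup' D L)
      have hEL' : E ≤ L' := le_inf (h.eLL.trans le_sup_right)
        ((hED.trans (centralizer_le hQD)).trans (centralizer_le_normalizer _))
      have hRL' : R ≤ normalizer (L' : Set X) := Coprime.le_normalizer_inf_normalizer hRDL hQ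
      have hle : E ≤ ⁅L', R⁆ := by
        -- Frattini in `D L`
        have hcov : ⁅L, R⁆ ≤ D ⊔ ⁅L', R⁆ := by
          refine commutator_le.2 fun l hl x hx => ?_
          have hln : l ∈ normalizer (D : Set X) := hDLn hl
          let σ : MulAut D := Subgroup.normalizerMonoidHom D ⟨l, hln⟩
          obtain ⟨d, hd⟩ := MulAction.exists_smul_eq D (Q.comapOfInjective σ.symm.toMonoidHom
            σ.symm.injective (by simp)) Q
          have hd' : ∀ y ∈ Q₀, (d : X) * (l * y * l⁻¹) * (d : X)⁻¹ ∈ Q₀ := by
            rintro _ ⟨z, hz, rfl⟩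
            have h1 : σ z ∈ (Q.comapOfInjective σ.symm.toMonoidHom σ.symm.injective (by simp) :
                Subgroup D) := by
              show σ.symm (σ z) ∈ (Q : Subgroup D)
              rw [MulEquiv.symm_apply_apply]
              exact hz
            have h3 : (MulAut.conj d) (σ z) ∈ ((d • (Q.comapOfInjective σ.symm.toMonoidHom
                σ.symm.injective (by simp)) : Sylow 2 D) : Subgroup D) :=
              Subgroup.smul_mem_pointwise_smul _ _ _ h1
            rw [hd] at h3
            exact ⟨_, h3, rfl⟩
          have hdl : (d : X) * l ∈ L' := mem_inf.2 ⟨mul_mem (mem_sup_left d.2) (mem_sup_right hl),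
            Subgroup.mem_normalizer_fintype fun y hy => by
              have := hd' y hy
              simpa [mul_assoc] using this⟩
          have e1 : ⁅l, x⁆ = (d : X)⁻¹ * ⁅(d : X) * l, x⁆ * (x * d * x⁻¹) := by
            simp [commutatorElement_def, mul_assoc]
          rw [e1]
          exact mul_mem (mul_mem (mem_sup_left (inv_mem d.2))
            (mem_sup_right (commutator_mem_commutator hdl hx)))
            (mem_sup_left ((mem_normalizer_iff.1 (h.RC hx) _).1 d.2))
        refine h.perf.ge.trans (commutator_le.2 fun a ha b hb => ?_)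
        have hLn : ⁅L', R⁆ ≤ normalizer (D : Set X) :=
          (commutator_mono (inf_le_left.trans (sup_le le_normalizer hDLn)) h.RC).trans
            (normalizer (D : Set X)).commutator_le_self
        obtain ⟨d, hd, t, ht, rfl⟩ := (Coprime.mem_sup_iff_of_le_normalizer' (H := ⁅L', R⁆) (N := D)
          hLn).1 ((sup_comm D ⁅L', R⁆).le (hcov (h.le ha)))
        have hdb : Commute d b := mem_centralizer_iff.1 (hED hb) d hd
        have ht' : ⁅t, b⁆ ∈ ⁅L', R⁆ := by
          rw [commutatorElement_def, mul_assoc, mul_assoc]
          refine mul_mem ht ?_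
          rw [← mul_assoc]
          exact (mem_normalizer_iff.1 (normalizer_commutator_ge_left L' R (hEL' hb)) _).1 (inv_mem ht)
        have hdn : d ∈ L' := by
          have h1 : d * t ∈ L' := hEL' ha
          have h3 : t ∈ L' := Coprime.commutator_le_left_of_le_normalizer hRL' ht
          simpa using mul_mem h1 (inv_mem h3)
        have e2 : ⁅d * t, b⁆ = d * ⁅t, b⁆ * d⁻¹ := by
          rw [commutatorElement_mul_left_eq_conj_mul, commutatorElement_eq_one_iff_commute.2 hdb,
            mul_one]
        rw [e2]
        exact (mem_normalizer_iff.1 (normalizer_commutator_ge_left L' R hdn) _).1 ht'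
      have hyp' : Hyp r R L' E Y' :=
        { prime := h.prime
          cardR := h.cardR
          copL := fun hd => not_dvd_card_sup h.prime hDLn h.copL (fun e => h.copY (e.trans (card_dvd_of_le hDY)))
            (hd.trans (card_dvd_of_le inf_le_left))
          copY := fun hd => h.copY (hd.trans (card_dvd_of_le inf_le_left))
          RL := hRL'
          RE := h.RE
          LE := inf_le_left.trans hDLE
          perf := h.perf
          le := hle
          RY := Coprime.le_normalizer_inf_normalizer h.RY hQ
          LY := Coprime.le_normalizer_inf_of_le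
            (inf_le_left.trans (sup_le (hDY.trans le_normalizer) h.LY))
            (inf_le_right.trans le_normalizer)
          fix := h.fix.trans (centralizer_le (inf_le_inf_right _ inf_le_left :
            Y' ⊓ centralizer (R : Set X) ≤ Y ⊓ centralizer (R : Set X))) }
      have hY'D : Y' ≤ D := le_inf inf_le_left (le_centralizer_iff.1 (hIH hyp' hY'lt))
      -- hence `Q₀` is a Sylow subgroup of `Y`
      obtain ⟨P, hP⟩ := ((Q.isPGroup'.map D.subtype).comap_of_injective Y.subtype
        Y.subtype_injective).exists_le_sylow
      have hPQ : (P : Subgroup ↥Y) = Q₀.subgroupOf Y := by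
        by_contra hne
        have hne' : (Q₀.subgroupOf Y).subgroupOf (P : Subgroup ↥Y) ≠ ⊤ := fun e =>
          hne (le_antisymm (subgroupOf_eq_top.1 e) hP)
        obtain ⟨⟨x, hxP⟩, hxn, hx⟩ := SetLike.exists_of_lt (PGroup.lt_normalizer P.isPGroup' hne')
        have hxQ : (x : X) ∈ normalizer (Q₀ : Set X) := Subgroup.mem_normalizer_fintype fun y hy =>
          (mem_normalizer_iff.1 hxn ⟨⟨y, hDY (hQD hy)⟩,
            hP (show (⟨y, hDY (hQD hy)⟩ : ↥Y) ∈ Q₀.subgroupOf Y from hy)⟩).1 hy
        have hxD : (x : X) ∈ D := hY'D ⟨x.2, hxQ⟩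
        -- the Sylow subgroup `Q` of `D` contains no bigger 2-group
        let P₁ : Subgroup D := ((P : Subgroup ↥Y).map Y.subtype).subgroupOf D
        have hP₁ : IsPGroup 2 P₁ :=
          (P.isPGroup'.map Y.subtype).comap_of_injective D.subtype D.subtype_injective
        have hQP : (Q : Subgroup D) ≤ P₁ := fun z hz =>
          ⟨⟨(z : X), hDY z.2⟩, hP (show (z : X) ∈ Q₀ from ⟨z, hz, rfl⟩), rfl⟩
        have := Q.is_maximal' hP₁ hQP
        apply hx
        have h1 : (⟨(x : X), hxD⟩ : D) ∈ P₁ := ⟨x, hxP, rfl⟩
        rw [this] at h1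
        exact ⟨_, h1, rfl⟩
      refine le_centralizer_of_fix_sylow hFT hO h.EY h.perf P fun e he s hs => ?_
      rw [hPQ] at hs
      exact mem_centralizer_iff.1 (hED he) _ (hQD hs)
    · -- `|D|` odd
      obtain ⟨P, hP⟩ := Coprime.exists_invariant_sylow (A := R) (K := Y) h.RY h.coprime
        (Or.inl h.solvR) 2
      set T : Subgroup X := (P : Subgroup ↥Y).map Y.subtype with hTdef
      have hTY : T ≤ Y := map_subtype_le _
      have hT2 : IsPGroup 2 T := P.isPGroup'.map _
      have hTlt : T < Y := by
        refine lt_of_le_of_ne hTY fun e => hsol ?_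
        haveI : Group.IsNilpotent ↥Y := (e ▸ hT2 : IsPGroup 2 Y).isNilpotent
        infer_instance
      set L' := (Y ⊔ L) ⊓ normalizer (T : Set X) with hL'def
      have hRYL : R ≤ normalizer ((Y ⊔ L : Subgroup X) : Set X) :=
        (le_inf h.RY h.RL).trans (Components.inf_normalizer_le_normalizer_sup' Y L)
      have hRL' : R ≤ normalizer (L' : Set X) := Coprime.le_normalizer_inf_normalizer hRYL hP
      have hWY : ⁅L', R⁆ ≤ normalizer (Y : Set X) :=
        (commutator_mono (inf_le_left.trans (sup_le le_normalizer h.LY)) h.RY).trans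
          (normalizer (Y : Set X)).commutator_le_self
      have hcov : ⁅L, R⁆ ≤ Y ⊔ ⁅L', R⁆ := by
        refine commutator_le.2 fun l hl x hx => ?_
        let σ : MulAut Y := Subgroup.normalizerMonoidHom Y ⟨l, h.LY hl⟩
        obtain ⟨d, hd⟩ := MulAction.exists_smul_eq Y (P.comapOfInjective σ.symm.toMonoidHom
          σ.symm.injective (by simp)) P
        have hd' : ∀ y ∈ T, (d : X) * (l * y * l⁻¹) * (d : X)⁻¹ ∈ T := by
          rintro _ ⟨z, hz, rfl⟩
          have h1 : σ z ∈ (P.comapOfInjective σ.symm.toMonoidHom σ.symm.injective (by simp) :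
              Subgroup Y) := by
            show σ.symm (σ z) ∈ (P : Subgroup Y)
            rw [MulEquiv.symm_apply_apply]
            exact hz
          have h3 : (MulAut.conj d) (σ z) ∈ ((d • (P.comapOfInjective σ.symm.toMonoidHom
              σ.symm.injective (by simp)) : Sylow 2 Y) : Subgroup Y) :=
            Subgroup.smul_mem_pointwise_smul _ _ _ h1
          rw [hd] at h3
          exact ⟨_, h3, rfl⟩
        have hdl : (d : X) * l ∈ L' := mem_inf.2 ⟨mul_mem (mem_sup_left d.2) (mem_sup_right hl),
          Subgroup.mem_normalizer_fintype fun y hy => by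
            have := hd' y hy
            simpa [mul_assoc] using this⟩
        have e1 : ⁅l, x⁆ = (d : X)⁻¹ * ⁅(d : X) * l, x⁆ * (x * d * x⁻¹) := by
          simp [commutatorElement_def, mul_assoc]
        rw [e1]
        exact mul_mem (mul_mem (mem_sup_left (inv_mem d.2))
          (mem_sup_right (commutator_mem_commutator hdl hx)))
          (mem_sup_left ((mem_normalizer_iff.1 (h.RY hx) _).1 d.2))
      set F := resid ⁅L', R⁆ with hFdef
      have hfixT : T ⊓ centralizer (R : Set X) = ⊥ := by
        have h1 : T ⊓ centralizer (R : Set X) ≤ D :=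
          le_inf (inf_le_left.trans hTY) ((inf_le_inf_right _ hTY).trans (le_centralizer_iff.1 h.fix))
        obtain ⟨k, hk⟩ := IsPGroup.iff_card.1 (hT2.to_le (inf_le_left : T ⊓ centralizer (R : Set X) ≤ T))
        rcases k with _ | k
        · exact Subgroup.card_eq_one.1 hk
        · exact absurd ((dvd_pow_self 2 (Nat.succ_ne_zero k)).trans
            (hk ▸ card_dvd_of_le h1)) h2
      have hyp' : Hyp r R L' F T :=
        { prime := h.prime
          cardR := h.cardR
          copL := fun hd => not_dvd_card_sup h.prime h.LY h.copL h.copY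
            (hd.trans (card_dvd_of_le inf_le_left))
          copY := fun hd => h.copY (hd.trans (card_dvd_of_le hTY))
          RL := hRL'
          RE := le_normalizer_resid (normalizer_commutator_ge_right L' R)
          LE := le_normalizer_resid (normalizer_commutator_ge_left L' R)
          perf := resid_perfect _
          le := resid_le _
          RY := hP
          LY := inf_le_right
          fix := by
            rw [hfixT]
            exact fun e _ => mem_centralizer_iff.2 fun y hy => by simp [Subgroup.mem_bot.1 hy] }
      have hFcT : F ≤ centralizer (T : Set X) := hIH hyp' hTlt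
      have hFY : F ≤ normalizer (Y : Set X) := (resid_le _).trans hWY
      have hFc : F ≤ centralizer (Y : Set X) :=
        le_centralizer_of_fix_sylow hFT hO hFY (resid_perfect _) P fun e he s hs =>
          mem_centralizer_iff.1 (hFcT he) _ ⟨s, hs, rfl⟩
      have hEYC : E ≤ Y ⊔ centralizer (Y : Set X) :=
        (le_sup_resid h.perf hWY (h.le.trans hcov)).trans (sup_le le_sup_left (hFc.trans le_sup_right))
      -- `E` acts by inner automorphisms
      have hnC : ∀ {A : Subgroup X}, A ≤ normalizer (Y : Set X) →
          A ≤ normalizer ((centralizer (Y : Set X) : Subgroup X) : Set X) :=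
        fun hA => hA.trans (Components.normalizer_le_normalizer_centralizer' Y)
      set Z := Y ⊓ (E ⊔ centralizer (Y : Set X)) with hZdef
      have hnZ : ∀ {A : Subgroup X}, A ≤ normalizer (Y : Set X) → A ≤ normalizer (E : Set X) →
          A ≤ normalizer (Z : Set X) := fun hA hA' =>
        Coprime.le_normalizer_inf_of_le hA
          ((le_inf hA' (hnC hA)).trans (Components.inf_normalizer_le_normalizer_sup' _ _))
      have hEn : E ≤ normalizer ((centralizer (Y : Set X) : Subgroup X) : Set X) := hnC h.EY
      have hcEC : E ≤ centralizer ((Y ⊓ centralizer (R : Set X) : Subgroup X) : Set X) := h.fix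
      have hZlt : Z < Y := by
        refine lt_of_le_of_ne inf_le_left fun e => hsol ?_
        -- `Y` would centralise its `R`-fixed points
        have hfixY : Y ⊓ centralizer (R : Set X) ≤ centralizer (Y : Set X) := by
          refine le_centralizer_iff.1 ?_
          exact e.ge.trans (inf_le_right.trans (sup_le hcEC (centralizer_le inf_le_left)))
        have hbot : Y ⊓ centralizer (R : Set X) = ⊥ := by
          rw [eq_bot_iff]
          intro y hy
          have h1 : (⟨y, hy.1⟩ : ↥Y) ∈ center ↥Y := Subgroup.mem_center_iff.2 fun z =>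
            Subtype.ext (mem_centralizer_iff.1 (hfixY hy) z z.2)
          rcases hchar (center ↥Y) inferInstance with e1 | e1
          · rw [e1, Subgroup.mem_bot] at h1
            exact congrArg Subtype.val h1
          · exfalso
            apply hsol
            exact Group.isSolvable_of_comm fun a b =>
              (Subgroup.mem_center_iff.1 (e1.ge (Subgroup.mem_top b)) a)
        haveI := Fact.mk h.prime
        obtain ⟨x, hxR, hx1⟩ : ∃ x ∈ R, x ≠ 1 := by
          refine (Subgroup.bot_or_exists_ne_one R).resolve_left fun e1 => ?_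
          have := h.cardR
          rw [e1, Subgroup.card_bot] at this
          exact h.prime.ne_one this.symm
        haveI : Group.IsNilpotent ↥Y := PComplement.isNilpotent_of_fpf (p := r) ↥Y
          (Subgroup.normalizerMonoidHom Y ⟨x, h.RY hxR⟩)
          (by
            rw [← map_pow]
            have : (⟨x, h.RY hxR⟩ : normalizer (Y : Set X)) ^ r = 1 := Subtype.ext (by
              rw [Subgroup.coe_pow, Subgroup.coe_one]
              have h4 := congrArg Subtype.val (pow_card_eq_one' (x := (⟨x, hxR⟩ : R)))
              rwa [Subgroup.coe_pow, Subgroup.coe_one, h.cardR] at h4)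
            rw [this, map_one])
          (fun g hg => by
            have hg' : x * (g : X) * x⁻¹ = g := congrArg Subtype.val hg
            have hR : R = zpowers x := by
              refine (Subgroup.eq_of_le_of_card_ge (zpowers_le.2 hxR) ?_).symm
              rw [h.cardR, Nat.card_zpowers]
              have h3 := Subgroup.orderOf_dvd_natCard R hxR
              rw [h.cardR] at h3
              rcases (Nat.dvd_prime h.prime).1 h3 with e2 | e2
              · exact absurd (orderOf_eq_one_iff.1 e2) hx1
              · exact e2.ge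
            have h1 : (g : X) ∈ Y ⊓ centralizer (R : Set X) := by
              refine ⟨g.2, ?_⟩
              rw [hR]
              refine mem_centralizer_iff.2 fun z hz => ?_
              obtain ⟨k, rfl⟩ := mem_zpowers_iff.1 hz
              exact (Commute.zpow_left (mul_inv_eq_iff_eq_mul.1 hg' : Commute x (g : X)) k).eq
            rw [hbot, Subgroup.mem_bot] at h1
            exact Subtype.ext h1)
        infer_instance
      have hEZ : E ≤ centralizer (Z : Set X) :=
        hIH (h.mono inf_le_left (hnZ h.RY h.RE) (hnZ h.LY h.LE)) hZlt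
      -- split `e = y c`
      have hsplit : ∀ e ∈ E, ∃ y ∈ Z, ∃ c ∈ centralizer (Y : Set X), e = y * c := by
        intro e he
        obtain ⟨y, hy, c, hc, hyc⟩ := (Coprime.mem_sup_iff_of_le_normalizer
          (H := Y) (N := centralizer (Y : Set X)) (hnC le_normalizer)).1 (hEYC he)
        refine ⟨y, ⟨hy, ?_⟩, c, hc, hyc.symm⟩
        rw [show y = e * c⁻¹ by rw [← hyc]; group]
        exact mul_mem (mem_sup_left he) (mem_sup_right (inv_mem hc))
      refine h.perf.ge.trans (commutator_le.2 fun a ha b hb => ?_)
      obtain ⟨y, hy, c, hc, rfl⟩ := hsplit a ha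
      have hyb : Commute y b := mem_centralizer_iff.1 (hEZ hb) y hy
      have hcb : ⁅c, b⁆ ∈ centralizer (Y : Set X) := by
        rw [commutatorElement_def, mul_assoc, mul_assoc]
        refine mul_mem hc ?_
        rw [← mul_assoc]
        exact (mem_normalizer_iff.1 (hEn hb) _).1 (inv_mem hc)
      rw [commutatorElement_mul_left_eq_conj_mul, commutatorElement_eq_one_iff_commute.2 hyb, mul_one]
      exact (mem_normalizer_iff.1 (hnC le_normalizer hy.1) _).1 hcb

/-- A perfect `E ≤ [L, R]` centralising `C_Y(R)` centralises `Y`. -/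
theorem centralize (hFT : FTConsumers.OddOrder.{u}) (hS : ShultHyp.{u}) [Finite X] {r : ℕ} {R L E Y : Subgroup X}
    (h : Hyp r R L E Y) : E ≤ centralizer (Y : Set X) :=
  centralize_aux hFT hS _ h rfl

end Cfsg.Agent.CoprimeLayer
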