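import Cfsg.Agent.Lib.CoprimeLayer.LayerLe
import Cfsg.Agent.Lib.Components.PActionAux

/-!
# Local components under a coprime action of prime order

`K` is quasisimple and commutes with its other conjugates under `R ⊔ C_G(R)`.  Then `K` is a
component of `C_G(R)`, a component of `G`, or lies in an `R`-invariant component of `G`.
-/

set_option autoImplicit false
set_option linter.unusedSectionVars false
set_option linter.style.haveILetI false

namespace Cfsg.Agent.CoprimeLayer

open scoped commutatorElement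
open Subgroup

universe u

variable {X : Type u} [Group X]

local notation "cj" g:max H:max => Subgroup.map (MulEquiv.toMonoidHom (MulAut.conj g)) H

theorem cj_cj (g h : X) (H : Subgroup X) : cj g (cj h H) = cj (g * h) H := by
  rw [map_map]
  congr 1
  ext x
  simp [mul_assoc]

theorem cj_one (H : Subgroup X) : cj (1 : X) H = H :=
  map_conj_eq_of_mem_normalizer (one_mem _)

theorem mem_normalizer_of_cj_eq {H : Subgroup X} {g : X} (h : cj g H = H) :
    g ∈ normalizer (H : Set X) := by
  refine mem_normalizer_iff.2 fun x => ⟨fun hx => h ▸ ⟨x, hx, rfl⟩, fun hx => ?_⟩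
  rw [← h] at hx
  obtain ⟨x', hx', e⟩ := hx
  have : x' = x := by simpa using e
  exact this ▸ hx'

theorem cj_eq_bot_iff {H : Subgroup X} {g : X} : cj g H = ⊥ ↔ H = ⊥ :=
  map_eq_bot_iff_of_injective H (MulAut.conj g).injective

theorem mem_normalizer_sSup [Finite X] {S : Set (Subgroup X)} {g : X}
    (h : ∀ U ∈ S, cj g U ∈ S) : g ∈ normalizer ((sSup S : Subgroup X) : Set X) :=
  mem_normalizer_of_forall fun y hy => by
    have : cj g (sSup S) ≤ sSup S :=
      map_le_iff_le_comap.2 (sSup_le fun U hU => map_le_iff_le_comap.1 (le_sSup (h U hU)))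
    exact this ⟨y, hy, rfl⟩

/-- A group normalising a quasisimple `L` has commutator `⊥` or `L` with it. -/
theorem commutator_eq_bot_or_eq {H L : Subgroup X} (hL : IsQuasisimple L)
    (hn : H ≤ normalizer (L : Set X)) : ⁅H, L⁆ = ⊥ ∨ ⁅H, L⁆ = L := by
  rcases Components.IsQuasisimple.eq_or_commutator_eq_bot hL
      (le_normalizer_iff_commutator_le_right.mp hn) (normalizer_commutator_ge_right H L) with h | h
  · exact Or.inr h
  · left
    exact Components.commutator_eq_bot_symm
      (Components.commutator_eq_bot_of_commutator_commutator hL.1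
        (Components.commutator_eq_bot_symm h))

/-! ### Families of commuting conjugates -/

/-- The subgroup generated by the conjugates of `K` under `A`. -/
def conjClosure (A K : Subgroup X) : Subgroup X := sSup {U | ∃ g ∈ A, cj g K = U}

theorem le_conjClosure (A K : Subgroup X) : K ≤ conjClosure A K :=
  le_sSup ⟨1, one_mem _, cj_one K⟩

theorem conjClosure_le {A K M : Subgroup X} (h : K ≤ M) (hA : A ≤ normalizer (M : Set X)) :
    conjClosure A K ≤ M :=
  sSup_le fun _ ⟨_, hg, hU⟩ => hU ▸ (Subgroup.map_mono h).trans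
    (map_conj_eq_of_mem_normalizer (hA hg)).le

theorem le_normalizer_conjClosure [Finite X] (A K : Subgroup X) :
    A ≤ normalizer ((conjClosure A K : Subgroup X) : Set X) := fun a ha =>
  mem_normalizer_sSup fun U ⟨g, hg, hU⟩ => ⟨a * g, mul_mem ha hg, by rw [← hU, cj_cj]⟩

variable {A K R : Subgroup X}

theorem conjClosure_le_normalizer
    (hcomm : ∀ g ∈ A, cj g K ≠ K → ⁅K, cj g K⁆ = ⊥) {h : X} (hh : h ∈ A) :
    conjClosure A K ≤ normalizer ((cj h K : Subgroup X) : Set X) := by
  refine sSup_le fun U ⟨g, hg, hU⟩ => hU ▸ ?_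
  by_cases he : cj g K = cj h K
  · exact he ▸ le_normalizer
  · refine (Components.le_centralizer_of_commutator_eq_bot ?_).trans (centralizer_le_normalizer _)
    have hne : cj (g⁻¹ * h) K ≠ K := fun e => he <| by
      conv_lhs => rw [← e, cj_cj, mul_inv_cancel_left]
    have := congrArg (Subgroup.map (MulAut.conj g).toMonoidHom)
      (hcomm _ (mul_mem (inv_mem hg) hh) hne)
    rwa [map_commutator, cj_cj, mul_inv_cancel_left, Subgroup.map_bot] at this

theorem conjClosure_perfect (hK : IsQuasisimple K) :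
    ⁅conjClosure A K, conjClosure A K⁆ = conjClosure A K :=
  perfect_sSup fun _ ⟨_, _, hU⟩ =>
    hU ▸ perfect_map _ (Components.IsQuasisimple.commutator_self hK)

/-- If `R ≤ A ≤ N(R)` does not centralise `K`, the closure is its commutator with `R`. -/
theorem commutator_conjClosure [Finite X] (hK : IsQuasisimple K)
    (hcomm : ∀ g ∈ A, cj g K ≠ K → ⁅K, cj g K⁆ = ⊥) (hRA : R ≤ A)
    (hAR : A ≤ normalizer (R : Set X)) (hKR : ¬ K ≤ centralizer (R : Set X)) :
    ⁅conjClosure A K, R⁆ = conjClosure A K := by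
  set F := conjClosure A K
  have hRF : R ≤ normalizer (F : Set X) := hRA.trans (le_normalizer_conjClosure A K)
  have hNF : ⁅F, R⁆ ≤ F := le_normalizer_iff_commutator_le_left.mp hRF
  have hAN : A ≤ normalizer ((⁅F, R⁆ : Subgroup X) : Set X) := fun a ha => by
    apply mem_normalizer_of_cj_eq
    rw [map_commutator, map_conj_eq_of_mem_normalizer (le_normalizer_conjClosure A K ha),
      map_conj_eq_of_mem_normalizer (hAR ha)]
  by_cases hle : K ≤ ⁅F, R⁆
  · exact le_antisymm hNF (conjClosure_le hle hAN)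
  · exfalso
    have hall : F ≤ centralizer ((⁅F, R⁆ : Subgroup X) : Set X) := by
      refine sSup_le fun U ⟨g, hg, hU⟩ => hU ▸ ?_
      have hUF : cj g K ≤ F := le_sSup ⟨g, hg, rfl⟩
      have hUq : IsQuasisimple (cj g K) :=
        Components.IsQuasisimple.map_injective hK (MulAut.conj g).injective
      have hnot : ¬ cj g K ≤ ⁅F, R⁆ := fun h => hle <| by
        rw [← map_conj_eq_of_mem_normalizer (hAN hg)] at h
        exact (map_le_map_iff_of_injective (MulAut.conj g).injective).1 h
      have hUN : cj g K ≤ normalizer ((⁅F, R⁆ : Subgroup X) : Set X) :=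
        hUF.trans (normalizer_commutator_ge_left F R)
      have hI := (Components.IsQuasisimple.eq_or_commutator_eq_bot hUq (inf_le_left :
        cj g K ⊓ ⁅F, R⁆ ≤ _) ((le_inf le_normalizer hUN).trans
          inf_normalizer_le_normalizer_inf)).resolve_left fun h' => hnot (h' ▸ inf_le_right)
      have h1 : ⁅⁅F, R⁆, cj g K⁆ ≤ cj g K ⊓ ⁅F, R⁆ :=
        le_inf (le_normalizer_iff_commutator_le_right.mp
          (hNF.trans (conjClosure_le_normalizer hcomm hg)))
          (le_normalizer_iff_commutator_le_left.mp hUN)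
      refine Components.le_centralizer_of_commutator_eq_bot
        (Components.commutator_eq_bot_of_commutator_commutator hUq.1 (eq_bot_iff.2 ?_))
      exact (commutator_mono h1 le_rfl).trans (Components.commutator_eq_bot_symm hI).le
    have h0 : ⁅⁅R, F⁆, F⁆ = ⊥ := by
      rw [commutator_comm R F]
      exact Components.commutator_eq_bot_symm (commutator_eq_bot_iff_le_centralizer.2 hall)
    exact hKR ((le_conjClosure A K).trans (Components.le_centralizer_of_commutator_eq_bot
      (Components.commutator_eq_bot_of_commutator_commutator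
        (isPerfect_iff.mpr (conjClosure_perfect hK)) h0)))

/-! ### Components of a subgroup, seen in the whole group -/

/-- `L` is a component of the subgroup `G`. -/
def CompIn (G L : Subgroup X) : Prop := L ≤ G ∧ IsComponent (L.subgroupOf G)

variable {G L M : Subgroup X}

theorem compIn_map {K : Subgroup ↥G} (hK : IsComponent K) : CompIn G (K.map G.subtype) :=
  ⟨map_subtype_le K, by
    rw [subgroupOf, comap_map_eq_self_of_injective G.subtype_injective]; exact hK⟩

theorem CompIn.quasi (h : CompIn G L) : IsQuasisimple L :=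
  (Components.isQuasisimple_congr (subgroupOfEquivOfLe h.1)).mp h.2.2

theorem CompIn.conj (h : CompIn G L) {g : X} (hg : g ∈ normalizer (G : Set X)) :
    CompIn G (cj g L) := by
  obtain ⟨K', hK', he⟩ := exists_component_conj h.2 hg
  rw [map_subgroupOf_eq_of_le h.1] at he
  exact he ▸ compIn_map hK'

theorem CompIn.comm (hL : CompIn G L) (hM : CompIn G M) (hne : L ≠ M) : ⁅L, M⁆ = ⊥ := by
  have hne' : L.subgroupOf G ≠ M.subgroupOf G := fun e => hne <| by
    rw [← map_subgroupOf_eq_of_le hL.1, e, map_subgroupOf_eq_of_le hM.1]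
  have := congrArg (Subgroup.map G.subtype)
    (Components.IsComponent.commutator_eq_bot hL.2 hM.2 hne')
  rwa [map_commutator, map_subgroupOf_eq_of_le hL.1, map_subgroupOf_eq_of_le hM.1,
    Subgroup.map_bot] at this

theorem CompIn.le_normalizer (hL : CompIn G L) (hM : CompIn G M) :
    L ≤ normalizer (M : Set X) := by
  by_cases h : L = M
  · exact h ▸ Subgroup.le_normalizer
  · exact (Components.le_centralizer_of_commutator_eq_bot (hL.comm hM h)).trans
      (centralizer_le_normalizer _)

theorem layer_map_le_sSup (G : Subgroup X) :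
    (layer ↥G).map G.subtype ≤ sSup {L | CompIn G L} :=
  map_le_iff_le_comap.2 (sSup_le fun _ hK => map_le_iff_le_comap.1 (le_sSup (compIn_map hK)))

/-- The diagonal element `(l a)^r` for an element `a` of order `r` moving the component of `l`. -/
theorem exists_diagonal {r : ℕ} {a l : X} {Y L : Subgroup X} (hr : 0 < r) (har : a ^ r = 1)
    (hl : l ∈ L) (hLY : L ≤ Y) (hY : ∀ i, a ^ i ∈ normalizer (Y : Set X))
    (hmove : ∀ i, 0 < i → i < r → ⁅L, cj (a ^ i) L⁆ = ⊥) :
    ∃ c w, w ∈ Y ∧ w ∈ centralizer (L : Set X) ∧ c = l * w ∧ c ∈ Y ∧ a * c = c * a := by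
  have key : ∀ n, n < r → l⁻¹ * (l * a) ^ (n + 1) * (a ^ (n + 1))⁻¹ ∈
      Y ⊓ centralizer (L : Set X) := by
    intro n
    induction n with
    | zero => intro _; simp
    | succ n ih =>
      intro hn
      have hz : a ^ (n + 1) * l * (a ^ (n + 1))⁻¹ ∈ Y ⊓ centralizer (L : Set X) := by
        refine mem_inf.2 ⟨(mem_normalizer_iff.1 (hY _) l).1 (hLY hl), ?_⟩
        exact Components.le_centralizer_of_commutator_eq_bot
          (Components.commutator_eq_bot_symm (hmove (n + 1) n.succ_pos hn))
          ⟨l, hl, rfl⟩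
      have h2 := mul_mem (ih (Nat.lt_of_succ_lt hn)) hz
      have e : l⁻¹ * (l * a) ^ (n + 1 + 1) * (a ^ (n + 1 + 1))⁻¹ =
          l⁻¹ * (l * a) ^ (n + 1) * (a ^ (n + 1))⁻¹ * (a ^ (n + 1) * l * (a ^ (n + 1))⁻¹) := by
        simp only [pow_succ, mul_inv_rev]
        group
      rw [e]
      exact h2
  obtain ⟨m, rfl⟩ : ∃ m, r = m + 1 := ⟨r - 1, by omega⟩
  have hw := key m (Nat.lt_succ_self m)
  rw [har, inv_one, mul_one] at hw
  refine ⟨(l * a) ^ (m + 1), l⁻¹ * (l * a) ^ (m + 1), hw.1, hw.2, by group, ?_, ?_⟩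
  · have := mul_mem (hLY hl) hw.1
    rwa [mul_inv_cancel_left] at this
  · have h1 : l * (l * a) ^ (m + 1) = (l * a) ^ (m + 1) * l := by
      have := mem_centralizer_iff.1 hw.2 l hl
      calc l * (l * a) ^ (m + 1) = l * (l * (l⁻¹ * (l * a) ^ (m + 1))) := by group
        _ = l * (l⁻¹ * (l * a) ^ (m + 1) * l) := by rw [this]
        _ = _ := by group
    have h2 : (l * a) * (l * a) ^ (m + 1) = (l * a) ^ (m + 1) * (l * a) :=
      (Commute.self_pow _ _).eq
    generalize (l * a) ^ (m + 1) = P at h1 h2 ⊢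
    calc a * P = l⁻¹ * (l * a * P) := by group
      _ = l⁻¹ * (P * l) * a := by rw [h2]; group
      _ = P * a := by rw [← h1]; group

/-- The trichotomy for a local component. -/
theorem trichotomy (hFT : FTConsumers.OddOrder.{u}) (hS : ShultHyp.{u}) [Finite X]
    {G R K : Subgroup X} {r : ℕ} [hrF : Fact r.Prime] (hR : Nat.card R = r)
    (hcop : (Nat.card G).Coprime r) (hnorm : R ≤ normalizer (G : Set X)) (hKG : K ≤ G)
    (hKq : IsQuasisimple K)
    (hcomm : ∀ g ∈ R ⊔ (G ⊓ centralizer (R : Set X)), cj g K ≠ K → ⁅K, cj g K⁆ = ⊥) :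
    (K ≤ G ⊓ centralizer (R : Set X) ∧
        IsComponent (K.subgroupOf (G ⊓ centralizer (R : Set X)))) ∨
      IsComponent (K.subgroupOf G) ∨
      ∃ L : Subgroup X, L ≤ G ∧ IsComponent (L.subgroupOf G) ∧ (∀ a ∈ R, cj a L = L) ∧ K ≤ L := by
  have hr : r.Prime := hrF.out
  set C : Subgroup X := G ⊓ centralizer (R : Set X) with hCdef
  by_cases hKR : K ≤ centralizer (R : Set X)
  · left
    have hKC : K ≤ C := le_inf hKG hKR
    have hcC : ∀ g ∈ C, cj g K ≠ K → ⁅K, cj g K⁆ = ⊥ := fun g hg =>
      hcomm g (mem_sup_right hg)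
    set F := conjClosure C K
    have hFC : F ≤ C := conjClosure_le hKC le_normalizer
    refine ⟨hKC, ?_, Components.IsQuasisimple.subgroupOf_of_le hKq hKC⟩
    have hFn : (F.subgroupOf C).Normal :=
      normal_subgroupOf_of_le_normalizer (le_normalizer_conjClosure C K)
    refine Components.isSubnormal_of_normalized hFn.isSubnormal (comap_mono (le_conjClosure C K))
      fun f hf => mem_normalizer_iff.2 fun b => ?_
    have h1 := conjClosure_le_normalizer hcC (one_mem C) (hf : (f : X) ∈ F)
    rw [cj_one] at h1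
    exact mem_normalizer_iff.1 h1 b
  right
  -- the closure under `R C_G(R)` lies in the layer
  set A0 : Subgroup X := R ⊔ C with hA0
  have hA0R : A0 ≤ normalizer (R : Set X) :=
    sup_le le_normalizer (inf_le_right.trans (centralizer_le_normalizer _))
  have hA0G : A0 ≤ normalizer (G : Set X) := sup_le hnorm (inf_le_left.trans le_normalizer)
  set F0 := conjClosure A0 K
  have hF0G : F0 ≤ G := conjClosure_le hKG hA0G
  have hlay := layer_le_layer hFT hS hr hR hcop hnorm hF0G (le_normalizer_conjClosure A0 K)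
    (commutator_conjClosure hKq hcomm le_sup_left hA0R hKR)
  have hKF0 : IsComponent (K.subgroupOf F0) := by
    refine ⟨(normal_subgroupOf_of_le_normalizer ?_).isSubnormal,
      Components.IsQuasisimple.subgroupOf_of_le hKq (le_conjClosure _ _)⟩
    have := conjClosure_le_normalizer hcomm (one_mem A0)
    rwa [cj_one] at this
  have hKlay : K ≤ sSup {L | CompIn G L} := by
    refine le_trans ?_ (hlay.trans (layer_map_le_sSup G))
    rw [← map_subgroupOf_eq_of_le (le_conjClosure A0 K)]
    exact Subgroup.map_mono (Components.IsComponent.le_layer hKF0)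
  have hKn : ∀ {L}, CompIn G L → K ≤ normalizer (L : Set X) := fun hL =>
    hKlay.trans (sSup_le fun M hM => CompIn.le_normalizer hM hL)
  have hKbot : K ≠ ⊥ := Components.IsQuasisimple.ne_bot hKq
  -- an orbit whose fixed points do not centralise `K`
  have hex : ∃ L, CompIn G L ∧ ∃ c ∈ sSup {U | ∃ a ∈ R, cj a L = U}, c ∈ centralizer (R : Set X) ∧
      ¬ ∀ k ∈ K, c * k = k * c := by
    by_contra hno
    push Not at hno
    refine hKbot (eq_bot_of_perfect_of_comm (Components.IsQuasisimple.commutator_self hKq) ?_)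
    have : sSup {L | CompIn G L} ≤ centralizer (K : Set X) := by
      refine sSup_le fun L hL => ?_
      set Y : Subgroup X := sSup {U | ∃ a ∈ R, cj a L = U} with hYdef
      have hYc : ∀ U, (∃ a ∈ R, cj a L = U) → CompIn G U := fun U ⟨a, ha, hU⟩ =>
        hU ▸ hL.conj (hnorm ha)
      have hYG : Y ≤ G := sSup_le fun U hU => (hYc U hU).1
      have hF1A : R ≤ A0 := le_sup_left
      have hyp : Hyp r R (conjClosure R K) (conjClosure R K) Y :=
        { prime := hr
          cardR := hR
          copL := fun hd => hr.coprime_iff_not_dvd.1 hcop.symm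
            (hd.trans (card_dvd_of_le (conjClosure_le hKG hnorm)))
          copY := fun hd => hr.coprime_iff_not_dvd.1 hcop.symm (hd.trans (card_dvd_of_le hYG))
          RL := le_normalizer_conjClosure R K
          RE := le_normalizer_conjClosure R K
          LE := le_normalizer
          perf := conjClosure_perfect hKq
          le := (commutator_conjClosure hKq (fun g hg => hcomm g (hF1A hg)) le_rfl le_normalizer
            hKR).ge
          RY := fun x hx => mem_normalizer_sSup fun U ⟨a, ha, hU⟩ =>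
            ⟨x * a, mul_mem hx ha, by rw [← hU, cj_cj]⟩
          LY := by
            refine conjClosure_le ?_ ?_
            · intro k hk
              refine mem_normalizer_sSup fun U hU => ?_
              rw [map_conj_eq_of_mem_normalizer (hKn (hYc U hU) hk)]
              exact hU
            · refine le_trans ?_ le_normalizer
              exact fun x hx => mem_normalizer_sSup fun U ⟨a, ha, hU⟩ =>
                ⟨x * a, mul_mem hx ha, by rw [← hU, cj_cj]⟩
          fix := by
            refine sSup_le fun U ⟨a, ha, hU⟩ => hU ▸ ?_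
            rintro _ ⟨k, hk, rfl⟩
            refine mem_centralizer_iff.2 fun c hc => ?_
            have e := mem_centralizer_iff.1 hc.2 a ha
            have e2 := hno L hL c hc.1 hc.2 k hk
            change c * (a * k * a⁻¹) = a * k * a⁻¹ * c
            have e3 : a⁻¹ * c = c * a⁻¹ := mem_centralizer_iff.1 hc.2 a⁻¹ (inv_mem ha)
            calc c * (a * k * a⁻¹) = a * (c * k) * a⁻¹ := by
                  rw [← mul_assoc, ← mul_assoc, ← e]; group
              _ = a * k * (c * a⁻¹) := by rw [e2]; group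
              _ = a * k * a⁻¹ * c := by rw [← e3]; group }
      intro y hy
      exact mem_centralizer_iff.2 fun k hk =>
        (mem_centralizer_iff.1 (centralize hFT hS hyp (le_conjClosure R K hk)) y
          (le_sSup (show L ∈ {U | ∃ a ∈ R, cj a L = U} from ⟨1, one_mem _, cj_one L⟩) hy)).symm
    intro a ha b hb
    exact mem_centralizer_iff.1 (this (hKlay hb)) a ha
  obtain ⟨L0, hL0, c0, hc0Y, hc0R, hc0K⟩ := hex
  set O : Set (Subgroup X) := {U | ∃ a ∈ R, cj a L0 = U} with hOdef
  set Y : Subgroup X := sSup O with hYdef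
  have hOc : ∀ L ∈ O, CompIn G L := fun U ⟨a, ha, hU⟩ => hU ▸ hL0.conj (hnorm ha)
  have hYG : Y ≤ G := sSup_le fun U hU => (hOc U hU).1
  have hRY : R ≤ normalizer (Y : Set X) := fun x hx => mem_normalizer_sSup fun U ⟨a, ha, hU⟩ =>
    ⟨x * a, mul_mem hx ha, by rw [← hU, cj_cj]⟩
  have hKnY : K ≤ normalizer (Y : Set X) := fun k hk => mem_normalizer_sSup fun U hU => by
    rw [map_conj_eq_of_mem_normalizer (hKn (hOc U hU) hk)]; exact hU
  have hKY : K ≤ Y := by
    by_contra hnot
    refine hc0K (commute_of_conj_eq_or_commute hc0Y hKnY hKq hnot ?_)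
    exact or_iff_not_imp_left.2 (hcomm c0 (mem_sup_right ⟨hYG hc0Y, hc0R⟩))
  by_cases hfix : ∀ a ∈ R, cj a L0 = L0
  · right
    exact ⟨L0, hL0.1, hL0.2, hfix, hKY.trans (sSup_le fun U ⟨a, ha, hU⟩ =>
      ((hfix a ha).symm.trans hU).ge)⟩
  left
  have hzp : ∀ a ∈ R, a ≠ 1 → R ≤ zpowers a := by
    intro a ha hne
    have hle : zpowers a ≤ R := zpowers_le.2 ha
    refine (Subgroup.eq_of_le_of_card_ge hle ?_).ge
    rw [hR]
    have hd : Nat.card (zpowers a) ∣ r := hR ▸ card_dvd_of_le hle
    rcases (Nat.dvd_prime hr).1 hd with h | h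
    · exact absurd (zpowers_eq_bot.1 (eq_bot_of_card_eq _ h)) hne
    · exact h.ge
  have hsemi : ∀ L ∈ O, ∀ a ∈ R, a ≠ 1 → cj a L ≠ L := by
    rintro L ⟨b, hb, rfl⟩ a ha hne he
    apply hfix
    have hall : ∀ x ∈ R, cj x (cj b L0) = cj b L0 := fun x hx =>
      map_conj_eq_of_mem_normalizer
        ((hzp a ha hne).trans (zpowers_le.2 (mem_normalizer_of_cj_eq he)) hx)
    have h0 := hall b⁻¹ (inv_mem hb)
    rw [cj_cj, inv_mul_cancel, cj_one] at h0
    rw [← h0] at hall
    exact hall
  have hYL : ∀ L ∈ O, Y ≤ normalizer (L : Set X) := fun L hL =>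
    sSup_le fun M hM => CompIn.le_normalizer (hOc M hM) (hOc L hL)
  have hLY : ∀ L ∈ O, L ≤ Y := fun L hL => le_sSup hL
  set W : Subgroup X → Subgroup X := fun L => Y ⊓ centralizer (L : Set X) with hWdef
  have hYW : ∀ L ∈ O, Y ≤ normalizer (W L : Set X) := fun L hL =>
    (le_inf le_normalizer ((hYL L hL).trans
      (Components.normalizer_le_normalizer_centralizer' L))).trans inf_normalizer_le_normalizer_inf
  obtain ⟨a0, ha0, ha0ne⟩ : ∃ a ∈ R, a ≠ 1 := by
    by_contra hno
    push Not at hno
    have : R = ⊥ := (Subgroup.eq_bot_iff_forall R).2 hno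
    rw [this, Subgroup.card_bot] at hR
    exact hr.ne_one hR.symm
  have hord : orderOf a0 = r := by
    rw [← Nat.card_zpowers, ← hR]
    exact congrArg (fun H : Subgroup X => Nat.card H)
      (le_antisymm (zpowers_le.2 ha0) (hzp a0 ha0 ha0ne))
  set A : Subgroup X := R ⊔ (Y ⊓ centralizer (R : Set X))
  have hAA0 : A ≤ A0 := sup_le_sup le_rfl (inf_le_inf_right _ hYG)
  have hcA : ∀ g ∈ A, cj g K ≠ K → ⁅K, cj g K⁆ = ⊥ := fun g hg => hcomm g (hAA0 hg)
  set F := conjClosure A K
  have hFY : F ≤ Y := conjClosure_le hKY (sup_le hRY (inf_le_left.trans le_normalizer))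
  have hFK : F ≤ normalizer (K : Set X) := by
    have := conjClosure_le_normalizer hcA (one_mem A)
    rwa [cj_one] at this
  have hdiag : ∀ L ∈ O, ∀ l ∈ L, ∃ c w, w ∈ W L ∧ c = l * w ∧ c ∈ Y ∧
      c ∈ centralizer (R : Set X) := by
    intro L hL l hl
    obtain ⟨c, w, hwY, hwL, hc, hcY, hca⟩ := exists_diagonal hr.pos (hord ▸ pow_orderOf_eq_one a0)
      hl (hLY L hL) (fun i => hRY (pow_mem ha0 i)) fun i hi hir =>
        (hOc L hL).comm ((hOc L hL).conj (hnorm (pow_mem ha0 i)))
          (Ne.symm (hsemi L hL _ (pow_mem ha0 i)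
            (pow_ne_one_of_lt_orderOf hi.ne' (hord.symm ▸ hir))))
    refine ⟨c, w, ⟨hwY, hwL⟩, hc, hcY, ?_⟩
    refine mem_centralizer_iff.2 fun x hx => ?_
    have : x ∈ centralizer ({c} : Set X) :=
      ((hzp a0 ha0 ha0ne).trans (zpowers_le.2 (mem_centralizer_singleton_iff.2 hca))) hx
    exact mem_centralizer_singleton_iff.1 this
  have hnb : ∀ L ∈ O, ¬ L ≤ centralizer (L : Set X) := fun L hL h =>
    Components.IsQuasisimple.ne_bot (hOc L hL).quasi
      (eq_bot_of_perfect_of_comm (Components.IsQuasisimple.commutator_self (hOc L hL).quasi)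
        fun a ha b hb => mem_centralizer_iff.1 (h hb) a ha)
  -- `L ≤ F W` for `L` not centralising `K`
  have hLU : ∀ L ∈ O, ⁅K, L⁆ ≠ ⊥ → L ≤ F ⊔ W L := by
    intro L hL hne
    refine ((commutator_eq_bot_or_eq (hOc L hL).quasi (hKn (hOc L hL))).resolve_left hne).ge.trans
      (le_trans (commutator_mono (le_conjClosure A K) le_rfl) (commutator_le.2 fun e he l hl => ?_))
    obtain ⟨c, w, hw, hc, hcY, hcR⟩ := hdiag L hL l hl
    have h1 : e * c * e⁻¹ * c⁻¹ ∈ F := by
      rw [mul_assoc, mul_assoc, ← mul_assoc c]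
      exact mul_mem he ((mem_normalizer_iff.1
        (le_normalizer_conjClosure A K (mem_sup_right ⟨hcY, hcR⟩)) e⁻¹).1 (inv_mem he))
    have h2 : e * w * e⁻¹ * w⁻¹ ∈ W L :=
      mul_mem ((mem_normalizer_iff.1 (hYW L hL (hFY he)) w).1 hw) (inv_mem hw)
    have hlw := mem_centralizer_iff.1 h2.2 l hl
    have : ⁅e, l⁆ = e * c * e⁻¹ * c⁻¹ * (e * w * e⁻¹ * w⁻¹)⁻¹ := by
      rw [eq_mul_inv_iff_mul_eq, commutatorElement_def, hc]
      calc e * l * e⁻¹ * l⁻¹ * (e * w * e⁻¹ * w⁻¹)
          = e * l * e⁻¹ * l⁻¹ * (e * w * e⁻¹ * w⁻¹ * l) * l⁻¹ := by group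
        _ = e * l * e⁻¹ * l⁻¹ * (l * (e * w * e⁻¹ * w⁻¹)) * l⁻¹ := by rw [hlw]
        _ = _ := by group
    rw [this]
    exact mul_mem (mem_sup_left h1) (mem_sup_right (inv_mem h2))
  -- two conjugates of `K` have disjoint supports
  have hdisj : ∀ L ∈ O, ∀ g ∈ A, ⁅K, L⁆ ≠ ⊥ → ⁅cj g K, L⁆ ≠ ⊥ → cj g K = K := by
    intro L hL g hg h1 h2
    by_contra hne
    have hK'Y : cj g K ≤ Y := (le_sSup ⟨g, hg, rfl⟩ : cj g K ≤ F).trans hFY
    have hV : L ≤ normalizer ((K ⊔ W L : Subgroup X) : Set X) :=
      (hLU L hL h1).trans (sup_le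
        ((le_inf hFK (hFY.trans (hYW L hL))).trans
          (Components.inf_normalizer_le_normalizer_sup' K (W L)))
        (le_sup_right.trans le_normalizer))
    have hLV : L ≤ K ⊔ W L :=
      ((commutator_eq_bot_or_eq (hOc L hL).quasi (hKn (hOc L hL))).resolve_left h1).ge.trans
        ((commutator_mono le_sup_left le_rfl).trans (le_normalizer_iff_commutator_le_left.mp hV))
    refine hnb L hL (le_trans ?_ (inf_le_right (a := Y)))
    refine ((commutator_eq_bot_or_eq (hOc L hL).quasi (hK'Y.trans (hYL L hL))).resolve_left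
      h2).ge.trans (commutator_le.2 fun x hx v hv => ?_)
    obtain ⟨w, hw, k, hk, rfl⟩ :=
      (Coprime.mem_sup_iff_of_le_normalizer' (H := K) (N := W L)
        (hKY.trans (hYW L hL))).1 (hLV hv)
    have hkx := mem_centralizer_iff.1
      (Components.le_centralizer_of_commutator_eq_bot (hcA g hg hne) hk) x hx
    have : ⁅x, w * k⁆ = x * w * x⁻¹ * w⁻¹ := by
      rw [commutatorElement_def, mul_inv_rev]
      calc x * (w * k) * x⁻¹ * (k⁻¹ * w⁻¹) = x * w * (k * x⁻¹ * k⁻¹) * w⁻¹ := by group
        _ = x * w * (x⁻¹ * (x * k) * x⁻¹ * k⁻¹) * w⁻¹ := by group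
        _ = x * w * (x⁻¹ * (k * x) * x⁻¹ * k⁻¹) * w⁻¹ := by rw [hkx]
        _ = _ := by group
    rw [this]
    exact mul_mem ((mem_normalizer_iff.1 (hYW L hL (hK'Y hx)) w).1 hw) (inv_mem hw)
  obtain ⟨L1, hL1, hne1⟩ : ∃ L ∈ O, ⁅K, L⁆ ≠ ⊥ := by
    by_contra hno
    push Not at hno
    exact hKbot (eq_bot_of_perfect_of_comm (Components.IsQuasisimple.commutator_self hKq)
      fun a ha b hb => mem_centralizer_iff.1
        ((sSup_le fun U hU => Components.le_centralizer_of_commutator_eq_bot
          (Components.commutator_eq_bot_symm (hno U hU)) : Y ≤ centralizer (K : Set X)) (hKY hb))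
        a ha)
  by_cases hKfix : ∀ a ∈ R, cj a K = K
  · -- `K` would be centralised by `R`
    exfalso
    have hL1' := hOc L1 hL1
    have hWC : ∀ k ∈ K, ∀ a ∈ R, a * k * a⁻¹ * k⁻¹ ∈ centralizer (K : Set X) := by
      intro k hk a ha
      obtain ⟨w, hw, l, hl, hkwl⟩ :=
        (Coprime.mem_sup_iff_of_le_normalizer' (H := L1) (N := W L1)
          ((hLY L1 hL1).trans (hYW L1 hL1))).1
          ((sSup_le fun M hM => by
            by_cases h : M = L1
            · exact h ▸ le_sup_left
            · exact (le_inf (hLY M hM) (Components.le_centralizer_of_commutator_eq_bot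
                ((hOc M hM).comm hL1' h))).trans le_sup_right : Y ≤ L1 ⊔ W L1) (hKY hk))
      obtain ⟨c, w', hw', hc, hcY, hcR⟩ := hdiag L1 hL1 l hl
      have hcL : cj c L1 = L1 := map_conj_eq_of_mem_normalizer (hYL L1 hL1 hcY)
      have hcK : cj c K = K := by
        refine hdisj L1 hL1 c (mem_sup_right ⟨hcY, hcR⟩) hne1 fun h => hne1 ?_
        rw [← hcL, ← map_commutator] at h
        exact cj_eq_bot_iff.1 h
      have hu : k⁻¹ * c ∈ centralizer (L1 : Set X) := by
        have hwl : l⁻¹ * w⁻¹ * l = w⁻¹ := by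
          rw [mul_assoc, ← mem_centralizer_iff.1 (inv_mem hw.2) l hl, inv_mul_cancel_left]
        rw [← hkwl, hc, mul_inv_rev, ← mul_assoc, hwl]
        exact mul_mem (inv_mem hw.2) hw'.2
      have hcomm' := commute_of_conj_eq_or_commute hu
        ((hKn hL1').trans (Components.normalizer_le_normalizer_centralizer' L1)) hKq
        (fun h => hne1 (commutator_eq_bot_iff_le_centralizer.2 h))
        (Or.inl (map_conj_eq_of_mem_normalizer
          (mul_mem (inv_mem (le_normalizer hk)) (mem_normalizer_of_cj_eq hcK))))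
      -- conjugation by `c` and by `k` agree on `K`
      have hck : ∀ x ∈ K, c * x * c⁻¹ = k * x * k⁻¹ := fun x hx => by
        calc c * x * c⁻¹ = k * (k⁻¹ * c * x) * c⁻¹ := by group
          _ = k * (x * (k⁻¹ * c)) * c⁻¹ := by rw [hcomm' x hx]
          _ = _ := by group
      have hac := mem_centralizer_iff.1 hcR a ha
      refine mem_centralizer_iff.2 fun x hx => ?_
      have hak : a * k * a⁻¹ ∈ K :=
        (mem_normalizer_iff.1 (mem_normalizer_of_cj_eq (hKfix a ha)) k).1 hk
      set z := (a * k * a⁻¹)⁻¹ * x * (a * k * a⁻¹) with hz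
      have hzK : z ∈ K := mul_mem (mul_mem (inv_mem hak) hx) hak
      have hzK' : a⁻¹ * z * a ∈ K := by
        have := (mem_normalizer_iff.1 (mem_normalizer_of_cj_eq (hKfix a⁻¹ (inv_mem ha))) z).1 hzK
        rwa [inv_inv] at this
      -- `a k a⁻¹` induces the same automorphism as `c`
      have h5 : k * z * k⁻¹ = x := by
        calc k * z * k⁻¹ = c * z * c⁻¹ := (hck z hzK).symm
          _ = (c * a) * (a⁻¹ * z * a) * (c * a)⁻¹ := by group
          _ = a * (c * (a⁻¹ * z * a) * c⁻¹) * a⁻¹ := by rw [← hac]; group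
          _ = a * (k * (a⁻¹ * z * a) * k⁻¹) * a⁻¹ := by rw [hck _ hzK']
          _ = x := by rw [hz]; group
      calc x * (a * k * a⁻¹ * k⁻¹) = a * k * a⁻¹ * (z * k⁻¹) := by rw [hz]; group
        _ = a * k * a⁻¹ * (k⁻¹ * (k * z * k⁻¹)) := by group
        _ = _ := by rw [h5]; group
    refine hKR (Components.le_centralizer_of_commutator_eq_bot
      (Components.commutator_eq_bot_of_commutator_commutator hKq.1 ?_))
    exact commutator_eq_bot_iff_le_centralizer.2
      (commutator_le.2 fun a ha k hk => hWC k hk a ha)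
  · -- `K` is a component
    have hKfix' : ∀ b ∈ R, b ≠ 1 → cj b K ≠ K := fun b hb hne he => hKfix fun x hx =>
      map_conj_eq_of_mem_normalizer
        ((hzp b hb hne).trans (zpowers_le.2 (mem_normalizer_of_cj_eq he)) hx)
    have hothers : ∀ M ∈ O, M ≠ L1 → ⁅K, M⁆ = ⊥ := by
      intro M hM hne
      obtain ⟨a, ha, rfl⟩ := hL1
      obtain ⟨b, hb, rfl⟩ := hM
      by_contra h
      have hba : b * a⁻¹ ∈ R := mul_mem hb (inv_mem ha)
      refine hKfix' _ hba (fun e => hne (by rw [mul_inv_eq_one.1 e]))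
        (hdisj _ ⟨b, hb, rfl⟩ _ (mem_sup_left hba) h fun h2 => hne1 ?_)
      have : cj b L0 = cj (b * a⁻¹) (cj a L0) := by rw [cj_cj, inv_mul_cancel_right]
      rw [this, ← map_commutator] at h2
      exact cj_eq_bot_iff.1 h2
    set W' : Subgroup X := sSup {M | M ∈ O ∧ M ≠ L1} with hW'
    have hL1W : L1 ≤ centralizer (W' : Set X) := fun l hl => mem_centralizer_iff.2 fun w hw =>
      (mem_centralizer_iff.1 ((sSup_le fun M ⟨hM, hMne⟩ =>
        Components.le_centralizer_of_commutator_eq_bot ((hOc M hM).comm (hOc L1 hL1) hMne) :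
          W' ≤ centralizer (L1 : Set X)) hw) l hl).symm
    have hKW : K ≤ centralizer (W' : Set X) := fun k hk => mem_centralizer_iff.2 fun w hw =>
      (mem_centralizer_iff.1 ((sSup_le fun M ⟨hM, hMne⟩ =>
        Components.le_centralizer_of_commutator_eq_bot
          (Components.commutator_eq_bot_symm (hothers M hM hMne)) :
          W' ≤ centralizer (K : Set X)) hw) k hk).symm
    have hW'n : W' ≤ normalizer (L1 : Set X) :=
      sSup_le fun M hM => CompIn.le_normalizer (hOc M hM.1) (hOc L1 hL1)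
    have hKle : K ≤ L1 ⊔ (W' ⊓ centralizer (W' : Set X)) := by
      intro k hk
      obtain ⟨l, hl, w, hw, e⟩ := (Coprime.mem_sup_iff_of_le_normalizer' (H := W') (N := L1) hW'n).1
        ((sup_comm L1 W').le ((sSup_le fun M hM => by
            by_cases h : M = L1
            · exact h ▸ le_sup_left
            · exact (le_sSup ⟨hM, h⟩ : M ≤ W').trans le_sup_right : Y ≤ L1 ⊔ W') (hKY hk)))
      rw [← e]
      refine mul_mem (mem_sup_left hl) (mem_sup_right (mem_inf.2 ⟨hw, ?_⟩))
      have : w = l⁻¹ * k := by rw [← e]; group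
      rw [this]
      exact mul_mem (inv_mem (hL1W hl)) (hKW hk)
    have hZ : resid (W' ⊓ centralizer (W' : Set X)) = ⊥ :=
      eq_bot_of_perfect_of_comm (resid_perfect _) fun a ha b hb =>
        mem_centralizer_iff.1 (resid_le _ hb).2 a (resid_le _ ha).1
    have hKL : K ≤ L1 := by
      have := le_sup_resid (Components.IsQuasisimple.commutator_self hKq)
        (inf_le_left.trans hW'n) hKle
      rwa [hZ, sup_bot_eq] at this
    have hn : L1 ≤ normalizer (K : Set X) := (hLU L1 hL1 hne1).trans
      (sup_le hFK (fun w hw => centralizer_le_normalizer _ (centralizer_le hKL hw.2)))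
    rcases Components.IsQuasisimple.eq_or_commutator_eq_bot (hOc L1 hL1).quasi hKL hn with e | e
    · rw [e]; exact (hOc L1 hL1).2
    · exact absurd (Components.commutator_eq_bot_symm e) hne1

end Cfsg.Agent.CoprimeLayer
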